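import Cfsg.Agent.S4q.M3

/-! A standard subgroup `Sp₄(q)`, `q` even: automorphisms centralising sections of the Sylow subgroup. -/

set_option autoImplicit false
set_option linter.unusedSectionVars false

namespace CF.S4q.M4u

open Cfsg Subgroup Equiv CF.Loc CF.LX CF.Ud CF.Sq M2

variable {K : Type} [Field K] [Fintype K] [CharP K 2] {i j : Fin 8} {a b c e : K} {l m : Kˣ} {θ : K ≃+* K}
  {g u : P K} {β : MulAut (P K)}

theorem hr_eq (n : j ≠ i) (n' : j ≠ i + 4) (p : al i l m = 1) (q : al j l m = 1) : hr l m = 1 := by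
  let f : Kˣ × Kˣ → Kˣ × Kˣ := fun p => (al i p.1 p.2, al j p.1 p.2)
  have s : Function.Surjective f := fun x => let ⟨l, m, p, q⟩ := al_sur n n' x.1 x.2; ⟨(l, m), Prod.ext p q⟩
  have o : ∀ i, al i (1 : Kˣ) 1 = 1 := fun i => by
    simpa using al_mul i (1 : Kˣ) 1 1 1
  have := (Finite.injective_iff_surjective.2 s) (a₁ := (l, m)) (a₂ := (1, 1)) (Prod.ext (p.trans (o i).symm) (q.trans (o j).symm))
  obtain ⟨rfl, rfl⟩ := Prod.ext_iff.1 this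
  exact hr_one

theorem sc {a : Kˣ} (h : ∀ c, a.1 * θ c = c) : a = 1 ∧ θ = 1 := by
  have p : a = 1 := Units.ext (by simpa using h 1)
  exact ⟨p, RingEquiv.ext fun c => by simpa [p] using h c⟩

theorem zc (i : u ∈ Us K) (j : g ∈ Zs K) : u * g * u⁻¹ = g :=
  conj_eq_iff.2 (mem_centralizer_iff'.1 (U_cen.ge j).2 u i)

theorem x2_Z (c : K) : xr 2 c ∈ Zs K := mem_sup_left (X_mem 2 c)
theorem x3_Z (c : K) : xr 3 c ∈ Zs K := mem_sup_right (X_mem 3 c)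
theorem x2_nf (c : K) : xr 2 c = xr 2 c * xr 3 0 := by rw [rt_xr.zero, mul_one]
theorem x3_nf (c : K) : xr 3 c = xr 2 0 * xr 3 c := by rw [rt_xr.zero, one_mul]
theorem x1_nf (c : K) : xr 1 c = xr 1 c * xr 2 0 * xr 3 0 * xr 4 0 := by simp only [rt_xr.zero, mul_one]
theorem x4_nf (c : K) : xr 4 c = xr 1 0 * xr 2 0 * xr 3 0 * xr 4 c := by simp only [rt_xr.zero, one_mul]

/-- the class modulo the centre -/
theorem md (i : u ∈ Us K) (h : u * (xr 1 a * xr 2 0 * xr 3 0 * xr 4 e) * u⁻¹ * (xr 1 b * xr 2 0 * xr 3 0 * xr 4 c)⁻¹ ∈ Zs K) :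
    a = b ∧ e = c := by
  obtain ⟨p, q, r, s, rfl⟩ := mem_U.1 i
  obtain ⟨x, y, h⟩ := mem_Z.1 h
  rw [mul_inv_eq_iff_eq_mul, mul_inv_eq_iff_eq_mul, z_nf x y, rt_xr.mul, rt_xr.mul, rt_xr.mul] at h
  obtain ⟨h1, -, -, h4⟩ := U_inj h
  constructor <;> grind

variable (d : Dq.Sm K 4)
include d

theorem cZ (h : Zs K ≤ Fx β) : ∃ u ∈ Us K, β = MulAut.conj u := by
  have ct : Ct (xr 2 1 * xr 3 1 : P K) := ⟨1, 1, one_ne_zero, one_ne_zero, rfl⟩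
  obtain ⟨u, i, l, m, β₀, ⟨θ, p⟩, rfl⟩ := nU d (β := β) fun g k => by
    rw [← cCt ct] at k ⊢
    have e : β (xr 2 1 * xr 3 1) = xr 2 1 * xr 3 1 := h (z_mem 1 1)
    exact mem_c1.2 (by rw [← e, ← map_mul, mem_c1.1 k, map_mul])
  have k : ∀ j a b k, xr j a ∈ Zs K → (∀ c, xr k c ∈ Zs K) → β₀ (xr j a) = xr k b → xr k ((al k l m).1 * b) = xr j a :=
    fun j a b k s t e => by
      have : u * hr l m * β₀ (xr j a) * (u * hr l m)⁻¹ = xr j a := h s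
      rwa [e, mul_inv_rev, ← mul_assoc, mul_assoc u, mul_assoc u, hr_cj, zc i (t _)] at this
  rcases p with p | p
  · obtain ⟨p2, rfl⟩ := sc fun c => xr_inj (k 2 c _ 2 (x2_Z c) x2_Z (p 2 c))
    obtain ⟨p3, -⟩ := sc fun c => xr_inj (k 3 c _ 3 (x3_Z c) x3_Z (p 3 c))
    exact ⟨u, i, by rw [hr_eq (by decide) (by decide) p2 p3, p.one, mul_one, mul_one]⟩
  · have := k 2 1 _ 3 (x2_Z 1) x3_Z (p 2 1)
    rw [x3_nf, x2_nf 1] at this
    exact absurd (z_inj this).1 zero_ne_one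

theorem dU (h : ∀ g ∈ Us K, β g * g⁻¹ ∈ Zs K) : ∃ u ∈ Us K, β = MulAut.conj u := by
  obtain ⟨u, i, l, m, β₀, ⟨θ, p⟩, rfl⟩ := nU d (β := β) fun g k => by simpa using mul_mem (Z_le (h g k)) k
  have k : ∀ j a b k, xr j a ∈ Us K → β₀ (xr j a) = xr k b → u * xr k ((al k l m).1 * b) * u⁻¹ * (xr j a)⁻¹ ∈ Zs K :=
    fun j a b k s e => by
      have : u * hr l m * β₀ (xr j a) * (u * hr l m)⁻¹ * _ ∈ _ := h _ s
      rwa [e, mul_inv_rev, ← mul_assoc, mul_assoc u, mul_assoc u, hr_cj] at this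
  rcases p with p | p
  · obtain ⟨p2, rfl⟩ := sc (a := al 1 l m) (θ := θ) fun c => by
      have := k 1 c _ 1 (x1_U c) (p 1 c)
      rw [x1_nf (_ * _), x1_nf c] at this
      exact (md i this).1
    obtain ⟨p3, -⟩ := sc (a := al 4 l m) (θ := 1) fun c => by
      have := k 4 c _ 4 (x4_U c) (p 4 c)
      rw [x4_nf (_ * _), x4_nf c] at this
      exact (md i this).2
    exact ⟨u, i, by rw [hr_eq (by decide) (by decide) p2 p3, p.one, mul_one, mul_one]⟩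
  · have := k 1 1 _ 4 (x1_U 1) (p 1 1)
    rw [x4_nf (_ * _), x1_nf 1] at this
    exact absurd (md i this).1 zero_ne_one

theorem cU : CA (Us K) (Zs K) := fun β h => by
  obtain ⟨u, i, rfl⟩ := cZ d (Z_le.trans h)
  exact ⟨u, U_cen.le ⟨i, mem_centralizer_iff'.2 fun g k => (conj_eq_iff.1 (h k)).symm⟩, rfl⟩

theorem cA1 : CA (A1 K) (A1 K) := fun β h => by
  obtain ⟨u, i, rfl⟩ := cZ d (Z_le1.trans h)
  obtain ⟨a, b, c, e, rfl⟩ := mem_U.1 i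
  have := conj_eq_iff.1 (h (x1_A 1))
  rw [x1_nf 1, nf_cm] at this
  exact ⟨_, nf_A1.2 (by simpa using this.2.symm), rfl⟩

theorem cA2 : CA (A2 K) (A2 K) := fun β h => by
  obtain ⟨u, i, rfl⟩ := cZ d (Z_le2.trans h)
  obtain ⟨a, b, c, e, rfl⟩ := mem_U.1 i
  have := conj_eq_iff.1 (h (x4_A 1))
  rw [x4_nf 1, nf_cm] at this
  exact ⟨_, nf_A2.2 (by simpa using this.2), rfl⟩

theorem cY : CA (Ys K) (Xs K 2) := fun β h => by
  have y : ∀ {g}, (∀ c, xr 2 c * g = g * xr 2 c) → g ∈ Ys K := fun k => mem_centralizer_iff'.2 fun x j => by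
    obtain ⟨c, rfl⟩ := mem_X.1 j; exact k c
  obtain ⟨u, i, rfl⟩ := cU d β fun g k => h (y fun c => (conj_eq_iff.1 (zc k (x2_Z c))).symm)
  obtain ⟨b, c, rfl⟩ := mem_Z.1 i
  have := congrArg (fun g : P K => g.1 ![0, 1, 0, 0]) (conj_eq_iff.1 (h (y (g := xr 0 1) fun c => (rt_xr.c2 0 1 c).symm)))
  simp only [P_mul, xr_ap, Matrix.cons_val, v4] at this
  obtain rfl : c = 0 := by grind
  exact ⟨_, x2_nf b ▸ X_mem 2 b, rfl⟩

theorem nc (i : Fin 8) (c : K) : ¬ Ct (β (xr i c)) := fun h => by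
  obtain ⟨g, β₀, ⟨θ, p | p⟩, rfl⟩ := aut d β <;> rw [MulAut.mul_apply, p] at h <;>
  exact nct h _ _ (isConj_iff.2 ⟨g, rfl⟩).symm

theorem cB1 (l : Xs K 2 ≤ Fx β) (h : ∀ g ∈ A1 K, β g * g⁻¹ ∈ Xs K 2) : ∃ u ∈ A1 K, β = MulAut.conj u := by
  obtain ⟨u, i, rfl⟩ := cZ d (β := β) (sup_le l (Xle fun c => by
    obtain ⟨b, e⟩ := mem_X.1 (h _ (Z_le1 (x3_Z c)))
    rw [mul_inv_eq_iff_eq_mul] at e
    change β _ = xr 3 c
    by_contra n
    exact nc d 3 c ⟨b, c, fun z => n (by rw [e, z, ← x3_nf]), fun z => n (by rw [z, rt_xr.zero, map_one]), e⟩))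
  obtain ⟨a, b, c, e, rfl⟩ := mem_U.1 i
  obtain ⟨x, k⟩ := mem_X.1 (h _ (x1_A 1))
  rw [x1_nf 1, x2_nf x] at k
  exact ⟨_, nf_A1.2 (by simpa using (z_inj ((rt_xr.cm ..).symm.trans k)).2), rfl⟩

theorem cB2 (l : Xs K 3 ≤ Fx β) (h : ∀ g ∈ A2 K, β g * g⁻¹ ∈ Xs K 3) : ∃ u ∈ A2 K, β = MulAut.conj u := by
  obtain ⟨u, i, rfl⟩ := cZ d (β := β) (sup_le (Xle fun c => by
    obtain ⟨b, e⟩ := mem_X.1 (h _ (Z_le2 (x2_Z c)))
    rw [mul_inv_eq_iff_eq_mul, c23] at e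
    change β _ = xr 2 c
    by_contra n
    exact nc d 2 c ⟨c, b, fun z => n (by rw [z, rt_xr.zero, map_one]), fun z => n (by rw [e, z, ← x2_nf]), e⟩) l)
  obtain ⟨a, b, c, e, rfl⟩ := mem_U.1 i
  obtain ⟨x, k⟩ := mem_X.1 (h _ (x4_A 1))
  rw [x4_nf 1, x3_nf x] at k
  exact ⟨_, nf_A2.2 (by simpa using (z_inj ((rt_xr.cm ..).symm.trans k)).1), rfl⟩

end CF.S4q.M4u
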