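import Cfsg.Agent.S4q.M2
import Cfsg.Agent.Sq.B1
import Cfsg.Agent.Known.Aut.Sp4
import Mathlib.Algebra.Group.Graph

/-! A standard subgroup `Sp₄(q)`, `q` even: automorphisms. -/

set_option autoImplicit false
set_option linter.unusedSectionVars false

namespace CF.S4q

open Cfsg Subgroup Equiv CF.Loc CF.LX CF.Ud CF.Sq
open CF.Dbl (El)
open scoped commutatorElement Matrix

variable {K : Type} [Field K] [Fintype K] [CharP K 2] {i j : Fin 8} {a b c e a' b' c' e' : K} {l m l' m' : Kˣ} {θ θ' : K ≃+* K}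
  {g u v w r : P K} {B B' : Subgroup (P K)} {β β' γ : MulAut (P K)}

open M2

theorem aut_ext (h : ∀ i c, β (xr i c) = β' (xr i c)) : β = β' :=
  MulEquiv.toMonoidHom_injective (hom_ext h)

namespace M3

/-- conjugation by a semilinear isometry -/
def cjA {ξ : Perm (Fin 4 → K)} (s : Sem 1 θ ξ) : MulAut (P K) where
  toFun g := ⟨ξ * g.1 * ξ⁻¹, s.su g.2⟩
  invFun g := ⟨ξ⁻¹ * g.1 * ξ⁻¹⁻¹, s.inv.su g.2⟩
  left_inv g := Subtype.ext (by simp [mul_assoc])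
  right_inv g := Subtype.ext (by simp [mul_assoc])
  map_mul' g h := Subtype.ext (by simp [mul_assoc])

theorem cws (θ : K ≃+* K) : Sem 1 θ (cw θ : Perm (Fin 4 → K)) := cw_sem fun _ => rfl
theorem st_cw (θ : K ≃+* K) : St (cjA (cws θ)) θ := fun i c => Subtype.ext (mul_inv_eq_iff_eq_mul.2 (Equiv.ext fun x => by
  simp only [Perm.mul_apply, ap]
  ext k; fin_cases i <;> fin_cases k <;> simp [cw_ap]))

/-- Plücker coordinates -/
def pk (x y : Fin 4 → K) : Fin 4 → K := ![x 0 * y 1 + x 1 * y 0, x 0 * y 2 + x 2 * y 0, x 1 * y 3 + x 3 * y 1, x 2 * y 3 + x 3 * y 2]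

/-- the graph of the exceptional automorphism -/
def Rl (K : Type) [Field K] [Fintype K] [CharP K 2] : Subgroup (P K × P K) where
  carrier := {p | ∀ x y, hf 1 x y = 0 → p.2.1 (pk x y) = pk (p.1.1 x) (p.1.1 y)}
  one_mem' := fun _ _ _ => rfl
  mul_mem' := fun {p q} h k x y e => by
    simp only [Prod.snd_mul, Prod.fst_mul, coe_mul, Perm.mul_apply]
    rw [k x y e, h _ _ (by rw [form, e])]
  inv_mem' := fun {p} h x y e => p.2.1.injective (by
    rw [h _ _ (by rw [form, e])]; simp)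

theorem x_Rl (i : Fin 8) (c : K) : (xr i c, xr (5 - i) (dq i c)) ∈ Rl K := fun x y e => by
  rw [hf4] at e
  rcases fin8 i with rfl | rfl | rfl | rfl | rfl | rfl | rfl | rfl <;>
    simp +decide only [ap, pk, dq, Fin.reduceSub, Matrix.cons_val, if_true, if_false, v4] <;> grind

theorem dq_sur (i : Fin 8) (c : K) : ∃ a, dq i a = c := by
  unfold dq; split_ifs; exacts [⟨rt c, rt_sq c⟩, ⟨c, rfl⟩]
theorem dq_map (θ : K ≃+* K) (i : Fin 8) (c : K) : dq i (θ c) = θ (dq i c) := by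
  unfold dq; split_ifs <;> simp
theorem dq_one (i : Fin 8) : dq i (1 : K) = 1 := by unfold dq; split_ifs <;> simp
theorem dq_dq (i : Fin 8) (c : K) : dq (5 - i) (dq i c) = c * c := by
  have : Odd (5 - i : Fin 8).val ↔ ¬ Odd i.val := by revert i; decide
  unfold dq; by_cases h : Odd i.val <;> simp [h, this]

theorem sg1 : ∃ β : MulAut (P K), Sg β 1 := by
  obtain ⟨f, e⟩ := Subgroup.exists_eq_graph (G := Rl K) ⟨fun p q (h : p.1.1 = q.1.1) => Subtype.ext (Prod.ext h (ext4 fun j => by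
    have k : ∀ x y, hf 1 x y = 0 → p.1.2.1 (pk x y) = q.1.2.1 (pk x y) := fun x y e => by rw [p.2 x y e, q.2 x y e, h]
    have := k (bv (![0, 0, 1, 2] j)) (bv (![1, 2, 3, 3] j)) (by fin_cases j <;> simp [hf4, bv])
    rwa [show pk (bv (![0, 0, 1, 2] j)) (bv (![1, 2, 3, 3] j)) = (bv j : Fin 4 → K) by
      fin_cases j <;> ext k <;> fin_cases k <;> simp [pk, bv]] at this)), fun g => by
    obtain ⟨p, h, e⟩ : g ∈ (Rl K).map (MonoidHom.fst _ _) := gen (B := (Rl K).map (MonoidHom.fst _ _)) (fun i c => ⟨_, x_Rl i c, rfl⟩) ▸ mem_top g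
    exact ⟨⟨p, h⟩, e⟩⟩
  have k : ∀ i c, f (xr i c) = xr (5 - i) (dq i c) := fun i c => MonoidHom.mem_graph.1 (e ▸ x_Rl i c)
  exact ⟨MulEquiv.ofBijective f (Finite.surjective_iff_bijective.1 (MonoidHom.range_eq_top.1 (gen fun i c => by
    obtain ⟨a, rfl⟩ := dq_sur (5 - i) c
    exact ⟨xr (5 - i) a, by rw [k, sub_sub_cancel]⟩))), k⟩

theorem fixb (j : Fin 4) (h : g.1 * E 1 (bv j) 0 1 = E 1 (bv j) 0 1 * g.1) : g.1 (bv j) = bv j := by
  have p := congrArg (fun k : Perm _ => k (bv j.rev)) h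
  have e : hf (1 : K ≃+* K) (bv j.rev : Fin 4 → K) (bv j) = 1 := by fin_cases j <;> simp [hf4, bv]
  simp only [Perm.mul_apply, tv_ap, (sem g).add, (sem g).smul1, e, one_mul, one_smul, add_right_inj] at p
  have q := form g (bv j.rev) (bv j)
  rw [p, hf_smul_r, e] at q
  rw [p, show hf 1 (g.1 (bv j.rev)) (bv j) = 1 from sq_inj (q.trans (mul_one 1).symm), one_smul]
end M3
open M3

theorem ex_St (θ : K ≃+* K) : ∃ β, St β θ := ⟨_, st_cw θ⟩
theorem st_one : St (1 : MulAut (P K)) 1 := fun _ _ => rfl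
theorem St.one (h : St β 1) : β = 1 := aut_ext h
theorem St.mul (h : St β θ) (h' : St β' θ') : St (β * β') (θ * θ') := fun i c => by rw [MulAut.mul_apply, h', h]; rfl
theorem St.mulg (h : St β θ) (h' : Sg β' θ') : Sg (β * β') (θ * θ') := fun i c => by rw [MulAut.mul_apply, h', h]; rfl
theorem Sg.mult (h : Sg β θ) (h' : St β' θ') : Sg (β * β') (θ * θ') := fun i c => by rw [MulAut.mul_apply, h', h, dq_map]; rfl
theorem Sg.mul (h : Sg β θ) (h' : Sg β' θ') : St (β * β') (θ * θ' * frobeniusEquiv K 2) := fun i c => by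
  rw [MulAut.mul_apply, h', h, dq_map, dq_dq, sub_sub_cancel, ← pow_two]; rfl
theorem ex_Sg (θ : K ≃+* K) : ∃ β, Sg β θ := let ⟨_, h⟩ := sg1 (K := K); ⟨_, mul_one θ ▸ (st_cw θ).mulg h⟩
theorem St.uq (h : St β θ) (h' : St β' θ) : β = β' := aut_ext fun i c => (h i c).trans (h' i c).symm
theorem Sg.uq (h : Sg β θ) (h' : Sg β' θ) : β = β' := aut_ext fun i c => (h i c).trans (h' i c).symm
theorem St.inv (h : St β θ) : St β⁻¹ θ⁻¹ := by
  obtain ⟨β', k⟩ := ex_St θ⁻¹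
  rwa [inv_eq_of_mul_eq_one_right (St.one (mul_inv_cancel θ ▸ h.mul k))]
theorem Sg.inv (h : Sg β θ) : Sg β⁻¹ (θ⁻¹ * (frobeniusEquiv K 2)⁻¹) := by
  obtain ⟨β', k⟩ := ex_Sg (θ⁻¹ * (frobeniusEquiv K 2)⁻¹)
  rwa [inv_eq_of_mul_eq_one_right (St.one (by simpa using h.mul k))]
theorem Sa.mul (h : Sa β) (h' : Sa β') : Sa (β * β') := by
  obtain ⟨_, h | h⟩ := h <;> obtain ⟨_, h' | h'⟩ := h'
  exacts [⟨_, .inl (h.mul h')⟩, ⟨_, .inr (h.mulg h')⟩, ⟨_, .inr (h.mult h')⟩, ⟨_, .inl (h.mul h')⟩]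
theorem Sa.inv (h : Sa β) : Sa β⁻¹ := by
  obtain ⟨_, h | h⟩ := h
  exacts [⟨_, .inl h.inv⟩, ⟨_, .inr h.inv⟩]
theorem Sa.zp (e : Sg γ 1) (h : Sa β) : β ∈ zpowers γ := by
  have k : ∀ {β θ}, St β θ → β ∈ zpowers γ := fun {β θ} h => by
    obtain ⟨n, rfl⟩ := mem_powers_iff_mem_zpowers.2 (Known.mem_zpowers_frob 2 θ)
    have : ∀ n : ℕ, St ((γ * γ) ^ n) (Known.frob K 2 ^ n) := fun n => by
      induction n with
      | zero => exact st_one
      | succ n i => rw [pow_succ, pow_succ]; exact i.mul (e.mul e)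
    exact (this n).uq h ▸ pow_mem (mul_mem (mem_zpowers γ) (mem_zpowers γ)) n
  obtain ⟨θ, h | h⟩ := h
  · exact k h
  · exact Sg.uq (mul_one θ ▸ (st_cw θ).mulg e) h ▸ mul_mem (k (st_cw θ)) (mem_zpowers γ)
theorem Sa.cm (h : Sa β) (h' : Sa β') : β * β' = β' * β := by
  obtain ⟨γ, e⟩ := sg1 (K := K)
  obtain ⟨n, rfl⟩ := h.zp e; obtain ⟨n', rfl⟩ := h'.zp e
  exact zpow_mul_comm _ _ _
theorem St.n (h : St β θ) (i : Fin 8) : β (nr K i) = nr K i := by simp only [nw, map_mul, h _, map_one]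
theorem Sg.n (h : Sg β θ) (i : Fin 8) : β (nr K i) = nr K (5 - i) := by
  simp only [nw, map_mul, h _, dq_one, map_one]; rw [show 5 - (i + 4) = 5 - i + 4 by revert i; decide]
theorem St.mh (h : St β θ) (l m : Kˣ) : β (hr l m) = hr (Units.map (θ : K →* K) l) (Units.map (θ : K →* K) m) := by
  simp only [hr, map_mul, h.n, h _]; rfl
theorem Sg.mh (h : Sg β θ) (l m : Kˣ) : β (hr l m) = hr (Units.map (θ : K →* K) (l * m)) (Units.map (θ : K →* K) (l * m⁻¹)) := by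
  have p := sl2 3 (Units.map (θ : K →* K) l); have q := sl2 1 (Units.map (θ : K →* K) m)
  simp only [hr, map_mul, h.n, h _]
  refine (congrArg₂ _ p q).trans ((hr_mul ..).symm.trans ?_)
  simp only [Matrix.cons_val, map_inv]; rfl
theorem St.mX (h : St β θ) (i : Fin 8) : (Xs K i).map β.toMonoidHom = Xs K i :=
  le_antisymm (map_le_iff_le_comap.2 (Xle fun c => show β _ ∈ _ from (h i c).symm ▸ X_mem i _)) (Xle fun c => ⟨_, X_mem i (θ.symm c), (h i _).trans (by simp)⟩)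
theorem Sg.mX (h : Sg β θ) (i : Fin 8) : (Xs K i).map β.toMonoidHom = Xs K (5 - i) :=
  le_antisymm (map_le_iff_le_comap.2 (Xle fun c => show β _ ∈ _ from (h i c).symm ▸ X_mem _ _)) (Xle fun c =>
    let ⟨a, e⟩ := dq_sur i (θ.symm c); ⟨_, X_mem i a, (h i _).trans (by simp [e])⟩)
theorem Sa.mU (h : Sa β) : (Us K).map β.toMonoidHom = Us K := by
  obtain ⟨_, h | h⟩ := h <;> simp only [Vs, Subgroup.map_sup, h.mX]
  change Xs K 4 ⊔ Xs K 3 ⊔ Xs K 2 ⊔ Xs K 1 = Xs K 1 ⊔ Xs K 2 ⊔ Xs K 3 ⊔ Xs K 4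
  ac_rfl
theorem Sa.mH (h : Sa β) : (Hs K).map β.toMonoidHom = Hs K :=
  eq_of_le_of_card_ge (by
    rintro _ ⟨g, i, rfl⟩
    obtain ⟨l, m, rfl⟩ := mem_H.1 i
    obtain ⟨_, h | h⟩ := h
    exacts [mem_H.2 ⟨_, _, h.mh l m⟩, mem_H.2 ⟨_, _, h.mh l m⟩]) (card_map_of_injective β.injective).ge
theorem St.cw (h : St β θ) (g : P K) : (β g).1 = cw θ * g.1 * (cw θ)⁻¹ := by rw [h.uq (st_cw θ)]; rfl
theorem Sg.ninn (h : Sg β θ) (g : P K) (k : St β' θ') : β ≠ MulAut.conj g * β' := fun e => by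
  have := h 2 1
  rw [e, MulAut.mul_apply, k, map_one, MulAut.conj_apply] at this
  exact n23 one_ne_zero (isConj_iff.2 ⟨_, this⟩)
theorem Sa.inn (h : Sa β) (e : β = MulAut.conj g) : β = 1 := by
  obtain ⟨θ, h | h⟩ := h
  · have k : ∀ i, g.1 * (xr i 1).1 = (xr i 1).1 * g.1 := fun i => by
      have := h i 1
      rw [e, map_one, MulAut.conj_apply, mul_inv_eq_iff_eq_mul] at this
      exact congrArg Subtype.val this
    rw [e, show g = 1 from ext4 fun j => fixb j (by fin_cases j; exacts [k 2, k 4, k 0, k 6]), map_one]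
  · exact absurd (e.trans (mul_one _).symm) (h.ninn g st_one)

namespace M3
theorem cj_nrm (β : MulAut (P K)) (g : P K) : β * MulAut.conj g = MulAut.conj (β g) * β := by ext; simp
instance : (MulAut.conj : P K →* _).range.Normal := ⟨by rintro _ ⟨g, rfl⟩ β; exact ⟨β g, by rw [cj_nrm]; simp⟩⟩
theorem mk_eq (g : P K) (β : MulAut (P K)) : QuotientGroup.mk' (MulAut.conj : P K →* _).range (MulAut.conj g * β) =
    QuotientGroup.mk' _ β := by
  rw [map_mul, mul_eq_right, QuotientGroup.mk'_apply, QuotientGroup.eq_one_iff]; exact ⟨g, rfl⟩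
theorem semi (s : Dq.Sm K 4) (β : MulAut (P K)) : (∃ ξ ∈ Gam (1 : K ≃+* K) 4, ∀ g : P K, (β g).1 = ξ * g * ξ⁻¹) ∨
    ∀ β' : MulAut (P K), (∃ ξ ∈ Gam (1 : K ≃+* K) 4, ∀ g : P K, (β' g).1 = ξ * g * ξ⁻¹) ∨
      ∃ ξ ∈ Gam (1 : K ≃+* K) 4, ∀ g : P K, ((β * β') g).1 = ξ * g * ξ⁻¹ := by
  obtain ⟨e, k, f, l, c, hc⟩ := B4.psp (j := 2) s rfl
  suffices ∀ β, MulAut.congr c β ∈ (Known.stab_sp (m := 2) (F := K)).psi.range →
      ∃ ξ ∈ Gam (1 : K ≃+* K) 4, ∀ g : P K, (β g).1 = ξ * g * ξ⁻¹ by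
    refine or_iff_not_imp_left.2 fun n β' => or_iff_not_imp_left.2 fun n' => this _ ?_
    rw [map_mul, mul_mem_iff_of_index_two Known.index_psi_sp4]
    exact iff_of_false (mt (this _) n) (mt (this _) n')
  rintro β ⟨γ, r⟩
  have i := Known.mem_semiSim_sp.1 γ.2
  have h1 := (Known.isInducedPSp_iff i γ.1.right _).2 r.symm
  obtain ⟨a, ha⟩ := i
  generalize γ.1.left = M at *
  generalize γ.1.right = θ at *
  obtain ⟨b, hb⟩ := exists_rt (a⁻¹).1
  have b0 : b ≠ 0 := fun z => (a⁻¹).ne_zero (by rw [← hb, z, zero_mul])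
  let ξ : Perm (Fin 4 → K) := e.toEquiv.trans ((Equiv.piCongrRight fun _ => θ.toEquiv).trans
    ((Geom.glEquiv _ K M).toEquiv.trans ((MulAction.toPerm (Units.mk0 b b0)).trans e.symm.toEquiv)))
  have hξ : ∀ x, e (ξ x) = b • M.1 *ᵥ (θ ∘ e x) := fun x => e.apply_symm_apply _
  have S : Sem 1 θ ξ := by
    refine ⟨fun x y => e.injective ?_, fun c x => e.injective ?_, fun x y => ?_, fun _ => rfl⟩
    · rw [map_add e, hξ, hξ, hξ, ← smul_add, ← Matrix.mulVec_add]; congr 2; ext; simp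
    · rw [map_smul e, hξ, hξ, smul_comm (θ c) b, ← Matrix.mulVec_smul _ (θ c)]; congr 2; ext; simp
    · rw [← k, hξ, hξ, ← Geom.sympBilin_apply, map_smul, map_smul, LinearMap.smul_apply, Geom.sympBilin_apply, ha,
        Known.sympForm_comp, k, smul_eq_mul, smul_eq_mul, ← mul_assoc, ← mul_assoc, hb]; simp
  refine ⟨ξ, ⟨θ, S⟩, fun g => congrArg Subtype.val (c.injective (?_ : c (β g) = c ⟨_, S.su g.2⟩))⟩
  rw [hc ⟨_, S.su g.2⟩, ← h1 (f g) _ (Geom.matrix_eq_iff_mulVec.2 fun v => ?_), ← hc]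
  · simp
  obtain ⟨v, rfl⟩ := e.surjective v
  obtain ⟨v, rfl⟩ := ξ.surjective v
  rw [← l, Perm.mul_apply, Perm.mul_apply, show ξ⁻¹ (ξ v) = v from ξ.symm_apply_apply v, hξ, hξ, Matrix.mulVec_smul,
    Matrix.mulVec_mulVec, mul_assoc, ← Units.val_mul, inv_mul_cancel, Units.val_one, mul_one, ← Matrix.mulVec_mulVec, l]
  congr 2; ext i; exact RingHom.map_mulVec (θ : K →+* K) _ _ i
theorem of_semi (s : Dq.Sm K 4) (h : ∃ ξ ∈ Gam (1 : K ≃+* K) 4, ∀ g : P K, (β g).1 = ξ * g * ξ⁻¹) :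
    ∃ g β₀ θ, St β₀ θ ∧ β = MulAut.conj g * β₀ := by
  obtain ⟨ξ, ⟨θ, k⟩, h⟩ := h
  obtain ⟨g, i, e⟩ := s.std k
  obtain rfl : ξ = g⁻¹ * cw θ := eq_inv_mul_iff_mul_eq.2 (Equiv.ext fun x => funext (e x))
  exact ⟨(⟨g, i⟩ : P K)⁻¹, _, θ, st_cw θ, MulEquiv.ext fun x => Subtype.ext ((h x).trans (by simp [cjA, mul_assoc]))⟩
theorem card_le {ι : Type} [Finite ι] (S : Subgroup (MulAut (P K))) (f : ι → MulAut (P K))
    (h : ∀ β ∈ S, ∃ g x, β = MulAut.conj g * f x) : (MulAut.conj : P K →* _).range.relIndex S ≤ Nat.card ι := by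
  rw [← QuotientGroup.ker_mk' (MulAut.conj : P K →* _).range, relIndex_ker]
  refine (Set.ncard_le_ncard (t := Set.range fun x => QuotientGroup.mk' _ (f x)) ?_ (Set.finite_range _)).trans
    (Nat.card_le_card_of_surjective _ Set.rangeFactorization_surjective)
  rintro _ ⟨β, i, rfl⟩
  obtain ⟨g, x, rfl⟩ := h β i
  exact ⟨x, (mk_eq g _).symm⟩
end M3

section
variable (d : Dq.Sm K 4)
include d
theorem aut (β : MulAut (P K)) : ∃ g β₀, Sa β₀ ∧ β = MulAut.conj g * β₀ := by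
  obtain ⟨γ, e⟩ := sg1 (K := K)
  rcases semi d γ with h | h
  · obtain ⟨g, _, _, p, q⟩ := of_semi d h
    exact absurd q (e.ninn g p)
  rcases h β with h | h <;> obtain ⟨g, β₀, θ, p, q⟩ := of_semi d h
  · exact ⟨g, β₀, ⟨θ, .inl p⟩, q⟩
  · exact ⟨γ⁻¹ g, γ⁻¹ * β₀, ⟨_, .inr (e.inv.mult p)⟩, by rw [← mul_assoc, ← cj_nrm, mul_assoc, ← q, inv_mul_cancel_left]⟩
theorem nU (h : ∀ g ∈ Us K, β g ∈ Us K) : ∃ u ∈ Us K, ∃ l m β₀, Sa β₀ ∧ β = MulAut.conj (u * hr l m) * β₀ := by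
  obtain ⟨g, β₀, p, rfl⟩ := aut d β
  obtain ⟨u, i, l, m, rfl⟩ := NU (g := g) (mem_normalizer_of_conj_mem fun x j => by
    obtain ⟨y, k, rfl⟩ := p.mU.ge j
    exact h y k)
  exact ⟨u, i, l, m, β₀, p, rfl⟩
theorem der (h : β ∈ _root_.commutator (MulAut (P K))) : ∃ g, β = MulAut.conj g := by
  suffices _root_.commutator (MulAut (P K)) ≤ (MulAut.conj : P K →* _).range from (this h).imp fun _ e => e.symm
  refine commutator_le.2 fun x _ y _ => ?_
  obtain ⟨g, x, p, rfl⟩ := aut d x; obtain ⟨g', y, q, rfl⟩ := aut d y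
  rw [← QuotientGroup.ker_mk' (MulAut.conj : P K →* _).range, MonoidHom.mem_ker, map_commutatorElement, mk_eq, mk_eq,
    ← map_commutatorElement, commutatorElement_eq_one_iff_mul_comm.2 (p.cm q), map_one]
theorem idx (S : Subgroup (MulAut (P K))) : (MulAut.conj : P K →* _).range.relIndex S ≤ 2 * Nat.card (K ≃+* K) := by
  rw [two_mul, ← Nat.card_sum]
  refine card_le S (Sum.elim (fun θ => (ex_St θ).choose) fun θ => (ex_Sg θ).choose) fun β _ => ?_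
  obtain ⟨g, β₀, ⟨θ, p | p⟩, rfl⟩ := aut d β
  exacts [⟨g, .inl θ, congrArg _ (p.uq (ex_St θ).choose_spec)⟩, ⟨g, .inr θ, congrArg _ (p.uq (ex_Sg θ).choose_spec)⟩]
theorem idx' (S : Subgroup (MulAut (P K))) (h : ∀ β ∈ S, ∃ g β₀ θ, St β₀ θ ∧ β = MulAut.conj g * β₀) :
    (MulAut.conj : P K →* _).range.relIndex S ≤ Nat.card (K ≃+* K) :=
  card_le S (fun θ => (ex_St θ).choose) fun β i =>
    let ⟨g, _, θ, p, e⟩ := h β i; ⟨g, θ, e.trans (congrArg _ (p.uq (ex_St θ).choose_spec))⟩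
theorem M3.sq1 (p : Sa β) (h : MulAut.conj g * β * (MulAut.conj g * β) = 1) : β * β = 1 :=
  (p.mul p).inn (g := (g * β g)⁻¹) (by
    rw [map_inv, eq_comm, inv_eq_iff_mul_eq_one, map_mul, mul_assoc, ← mul_assoc _ β, ← cj_nrm, ← h]; simp only [mul_assoc])
theorem out2 (h : β * β = 1) (h' : β' * β' = 1) (n : ∀ g, β ≠ MulAut.conj g) (n' : ∀ g, β' ≠ MulAut.conj g) :
    ∃ g, β * β' = MulAut.conj g := by
  classical
  obtain ⟨γ, e⟩ := sg1 (K := K)
  obtain ⟨g, x, p, rfl⟩ := aut d β; obtain ⟨g', y, q, rfl⟩ := aut d β'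
  have x2 := sq1 d p h; have y2 := sq1 d q h'
  have x1 : x ≠ 1 := fun z => n g (by rw [z, mul_one])
  have y1 : y ≠ 1 := fun z => n' g' (by rw [z, mul_one])
  obtain rfl : x = y := by
    by_contra z
    have := Fintype.ofFinite (zpowers γ)
    have := (Finset.card_le_card (s := {1, ⟨x, p.zp e⟩, ⟨y, q.zp e⟩}) (by
      simp [Finset.insert_subset_iff, Subtype.ext_iff, pow_two, x2, y2])).trans (IsCyclic.card_pow_eq_one_le (α := zpowers γ) two_pos)
    rw [Finset.card_eq_three.2 ⟨_, _, _, by simpa [Subtype.ext_iff] using x1.symm, by simpa [Subtype.ext_iff] using y1.symm,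
      by simpa using z, rfl⟩] at this
    omega
  exact ⟨g * x g', by rw [map_mul, mul_assoc, ← mul_assoc x, cj_nrm, mul_assoc _ x, x2, mul_one]⟩
end

end CF.S4q
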