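/-
The endgame for the five-dimensional unitary group: the model.
-/
import Cfsg.Agent.S4q.EU2
set_option autoImplicit false
set_option linter.unusedSectionVars false

namespace CF.S4q.EU
open Subgroup Equiv Module CF.BG CF.Sig CF.GW CF.Ab2 CF.Fe CF.Rd
open CF.Ge (cl_cj cl_rfl cl_symm cl_trans cl_mem cl_sq Gi)
open CF.U5 hiding Cl Iv Fd Fe e2_of JJ Ip Ac Yc
open CF.Sq (Sg Pt Cx Mh Gs Gh cw cw_ap)
open scoped commutatorElement

variable {K : Type} [Field K] [Fintype K] [CharP K 2] {m : ℕ} {σ θ : K ≃+* K} {a b c ζ ζ' : K}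
  {g l p ξ y : Perm (Fin m → K)} {u v w x n u' v' n' : Fin m → K} {H X V : Subgroup (Perm (Fin m → K))}
  {A : Set (Perm (Fin m → K))}

namespace Gm
variable (d : Gm σ m)
include d

theorem QU2 : P2 (Q σ (bv 0 : Fin m → K)) := d.sylU.pi.le d.qu

/-- the point defined by `b` -/
theorem pt_le (i : y ∈ Pt (SU σ m) (Z σ (bv 0)) (Q σ (bv 0)) (E σ (bv 0) (bv 1) 0) (E σ (bv 0) (bv 1) 0)) :
    ∃ (c : K), ∃ ζ, Ok σ (bv 0 : Fin m → K) (c • bv 1) ζ ∧ y = E σ (bv 0) (c • bv 1) ζ := by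
  let R : Subgroup (Perm (Fin m → K)) :=
    { carrier := {y | ∃ (c : K), ∃ ζ, Ok σ (bv 0 : Fin m → K) (c • bv 1) ζ ∧ y = E σ (bv 0) (c • bv 1) ζ}
      one_mem' := ⟨0, 0, by simpa using d.okt d.b00 (map_zero σ), by simp⟩
      mul_mem' := by
        rintro _ _ ⟨c, _, o, rfl⟩ ⟨c', _, o', rfl⟩
        exact ⟨c + c', _, add_smul c c' (bv 1 : Fin m → K) ▸ o.mul o', by rw [E_mul o o', add_smul]⟩
      inv_mem' := by
        rintro _ ⟨c, _, o, rfl⟩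
        exact ⟨c, _, o.inv, E_inv o⟩ }
  refine (sup_le ((closure_le R).2 ?_) fun y j => ?_ : _ ≤ R) i
  · rintro y ⟨j, k, r⟩
    obtain ⟨n, ζ, o, rfl⟩ := d.mQ.1 j
    by_cases h : n ∈ Submodule.span K {bv 0, bv 1}
    · obtain ⟨a, c, rfl⟩ := Submodule.mem_span_pair.1 h
      have o' := o.shift a
      have e := E_shift o a
      rw [add_right_comm, vv, zero_add] at o' e
      exact ⟨c, _, o', e.symm⟩
    obtain ⟨κ, k1, k2⟩ := d.ntr (hf σ (bv 1) n)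
    obtain ⟨w, w1, w2, w3, w4⟩ := d.val2 n (σ κ) (d.isot o (d.tcf (d.tcb o k).1)) o.nv h
    replace w4 : hf σ w n = κ := by rw [← d.sy, w4, d.iv]
    have k0 : κ ≠ 0 := fun z => k2 (z ▸ tc0)
    have ow := ok_iso d.iv d.b00 w1 w2
    have o1 := ok_iso d.iv d.b00 d.b11 d.b10
    have o2 := o1.mul ow
    have o3 := o.mul ow
    have := r _ (E_Q _ w 0) (d.clS ow tc0 (d.out0 (w4 ▸ k0) o.vn)) (by
      rw [E_mul o1 ow]
      exact d.clS o2 (by simpa [w3] using tc0) (d.out0 (v := n) (by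
        rw [hf_add_l, w4]; exact fun z => k1 (by grind)) o.vn))
    rw [E_mul o ow] at this
    refine (k2 ?_).elim
    rcases this with j | j
    · obtain ⟨c, e⟩ := d.of_Z o3 j
      have := congrArg (hf σ w) e
      rw [hf_add_r, w1, w4, hf_smul_r, w2, mul_zero, add_zero] at this
      exact (k0 this).elim
    · have := (d.tcb o3 j).1
      rw [add_zero, w4] at this
      exact this.sub (d.tcb o k).1
  · obtain ⟨a, f, rfl⟩ := d.mZ.1 j
    exact ⟨0, a, by simpa using d.okt d.b00 f, by simp⟩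

theorem le_pt (e : σ c = c) (o : Ok σ (bv 0 : Fin m → K) (c • bv 1) ζ) : E σ (bv 0) (c • bv 1) ζ ∈
    Pt (SU σ m) (Z σ (bv 0)) (Q σ (bv 0)) (E σ (bv 0) (bv 1) 0) (E σ (bv 0) (bv 1) 0) := by
  have i : hf σ (c • bv 1 : Fin m → K) (c • bv 1) = 0 := by simp [d.b11]
  have oc := ok_iso d.iv d.b00 i o.nv
  have o1 := ok_iso d.iv d.b00 d.b11 d.b10
  rw [(E_split o i).2]
  refine mul_mem ?_ (mem_sup_right (tv_Z _ _))
  by_cases c0 : c = 0
  · simp [c0]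
  refine mem_sup_left (subset_closure ⟨E_Q _ _ _, d.clS oc tc0 fun a f => d.ip01.out (c⁻¹ * a) (by
    rw [mul_smul, ← f, inv_smul_smul₀ c0]), fun y j k r => ?_⟩)
  obtain ⟨n, ζ, o', rfl⟩ := d.mQ.1 j
  rw [E_mul o1 o'] at r
  rw [E_mul oc o']
  have t1 := (d.tcb o' k).1
  have t2 := (d.tcb (o1.mul o') r).1
  rw [zero_add] at t2
  by_cases h : ∀ a : K, c • bv 1 + n ≠ a • bv 0
  · exact .inr (d.clS (oc.mul o') (by rw [zero_add, hf_smul_r, e]; exact t1.add ((t2.sub t1).mul e)) h)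
  · obtain ⟨a, f⟩ : ∃ a : K, c • bv 1 + n = a • bv 0 := by simpa using h
    exact .inl (d.E_Z (oc.mul o') f)

theorem cm1 (o : Ok σ (bv 0 : Fin m → K) n ζ) : ∃ ζ', Ok σ (bv 0) (hf σ n (bv 1) • bv 1 : Fin m → K) ζ' ∧
    ⁅E σ (bv 0) n ζ, E σ (bv 1 : Fin m → K) 0 1⁆ = E σ (bv 0) (hf σ n (bv 1) • bv 1) ζ' := by
  have := d.cmE o (d.EY d.b10 (hf_zero_l _) 1)
  rwa [E_ap (d.ok1 d.b11), smul_zero, add_zero, hf_zero_r, zero_add, one_mul, ← add_assoc, vv, zero_add] at this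

theorem cjQ (i : g ∈ SU σ m) : Q σ (g v) ≤ cj g (Q σ v) := (closure_le _).2 fun _ ⟨n, ζ, e⟩ => by
  obtain ⟨n, rfl⟩ := g.surjective n
  rw [e, ← E_cj1 (su_sem i)]; exact conj_mem_cj.2 (E_Q _ _ _)

theorem cx (h : E σ (bv 0) (bv 1) 0 ∈ A) : Cx (SU σ m) (UT σ m) (Z σ (bv 0)) (Q σ (bv 0)) (Y σ (bv 0)) (E σ (bv 0) 0 1)
    (E σ (bv 0) (bv 1) 0) A (E σ (bv 1) 0 1) := by
  have := d.hm
  refine ⟨h, d.e1U (j := 0) (zero_mem _) (by omega) 1, ?_, fun y i => ?_, fun y i => ?_, fun y i => ?_, fun u i => ?_,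
    fun y i k => ?_, d.cq, d.cu, fun X k => ?_⟩
  · obtain ⟨g, i, e⟩ := d.w1 _ _ d.b00 d.b0 d.b11 (bv_ne (by omega))
    exact ⟨g, i, by rw [tv_cj1 (su_sem i), e]⟩
  · obtain ⟨n, ζ, o, rfl⟩ := d.mQ.1 i
    obtain ⟨ζ', o', e⟩ := d.cm1 o
    refine e ▸ mem_cent.2 fun p j => ?_
    obtain ⟨c, _, o2, rfl⟩ := d.pt_le j
    rw [← commutatorElement_eq_one_iff_mul_comm, E_comm o2 o']; simp [d.b11]
  · obtain ⟨n, ζ, o, rfl⟩ := d.mQ.1 i.1
    obtain ⟨ζ', o', e⟩ := d.cm1 o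
    have o1 := ok_iso d.iv d.b00 d.b11 d.b10
    have c := commutatorElement_eq_one_iff_mul_comm.2
      (mem_cent.1 i.2 _ (by simpa using d.le_pt (map_one σ) (ζ := 0) (by simpa using o1)))
    rw [E_comm o1 o] at c
    refine e ▸ d.le_pt (by_contra fun z => ?_) o'
    obtain ⟨y, k⟩ := d.partner d.b0
    have := congrArg (· y) c
    simp only [E_ap (d.okt d.b00 (a := hf σ (bv 1) n + hf σ n (bv 1)) (by rw [map_add, d.sy, d.sy, add_comm])), k, smul_zero,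
      add_zero, hf_zero_r, zero_add, mul_one, Perm.one_apply, add_eq_left, smul_eq_zero, d.b0, or_false] at this
    exact z (by rw [d.sy]; grind)
  · obtain ⟨c, _, o, rfl⟩ := d.pt_le i
    obtain ⟨ζ', o', e⟩ := d.cm1 o
    exact e ▸ d.E_Z (c := 0) o' (by simp [d.b11])
  · refine mem_norm_of fun y j => ?_
    obtain ⟨c, _, o, rfl⟩ := d.pt_le j
    obtain ⟨ζ', o', e⟩ := d.cmE o (d.UY i)
    obtain ⟨a, f⟩ := U_e1 i
    have := d.E_Z (c := c * a) o' (by rw [(su_sem (d.US i)).smul1, f, smul_add, ← add_assoc, vv, zero_add, smul_smul])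
    exact mem_of_eq (mul_mem (mem_sup_right (cmi (e ▸ this))) j) (by rw [commutatorElement_def]; group)
  · obtain ⟨n, ζ, o, rfl⟩ := d.mQ.1 i
    exact d.clY o (d.tcb o k).1 (d.tcb o k).2
  · have f : ∀ v, Ip σ (bv 0) v → Q σ v ≤ X := fun v p => by
      obtain ⟨l, j, e⟩ := d.wY p
      obtain ⟨g, i, r⟩ := d.w1 _ v d.b00 d.b0 p.vv (by simpa using p.out 0)
      exact r ▸ (d.cjQ i).trans (k g i ⟨l, j, by rw [tv_cj1 (su_sem j.1), tv_cj1 (su_sem i), e, r]⟩)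
    have e : hf σ (bv (m - 2) : Fin m → K) (bv 1) ≠ 0 := by rw [d.b1 (by omega)]; exact one_ne_zero
    have p := ip_of d.b00 d.b0 (d.bb (i := m - 2) (by omega) (by omega)) (d.bb (by omega) (by omega)) (d.out0 e d.b01)
    exact d.qq X _ _ p.vv d.b11 e (f _ p) (f _ d.ip01)

variable (h : Ad σ θ A)
include h

theorem giE (i : E σ v n 0 ∈ UT σ m) (vv' : hf σ v v = 0) (nn : hf σ n n = 0) (nv : hf σ n v = 0) (e : cw θ v = v) (f : cw θ n = n) :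
    Gi (SU σ m) (UT σ m) (fun x => cw θ * x * (cw θ)⁻¹) (E σ v n 0) := by
  obtain ⟨ω, r⟩ := h.om
  have s := cw_sem (m := m) h.com
  have o : ∀ c : K, Ok σ v (c • n) 0 := fun c => ok_iso d.iv vv' (by simp [nn]) (by simp [nv])
  exact ⟨i, by rw [E_sq (ok_iso d.iv vv' nn nv), nn, E_zero], by beta_reduce; rw [E_cj s, e, f, map_zero], _, d.esu v (ω • n) 0, by
    beta_reduce; rw [E_cj s, e, s.smul, f, map_zero, E_inv (o ω), map_zero, E_mul (o _) (o _), ← add_smul, r]; simp [nn]⟩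

theorem sgQ (o : Ok σ (bv 0) n ζ) (i : hf σ n n = 0) :
    E σ (bv 0) n ζ ∈ Z σ (bv 0) ∨ Sg (SU σ m) (Z σ (bv 0)) A (E σ (bv 0) n ζ) := by
  by_cases k : ∀ c : K, n ≠ c • bv 0
  · refine .inr fun y j => ?_
    obtain ⟨a, f, rfl⟩ := d.mZ.1 j
    have o' := o.mul (d.okt d.b00 f)
    rw [E_mul o (d.okt d.b00 f)]
    rw [add_zero] at o' ⊢
    exact h.sg _ _ o' i k
  · obtain ⟨c, e⟩ : ∃ c : K, n = c • bv 0 := by simpa using k
    exact .inl (d.E_Z o e)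

theorem sig (s : Sg (SU σ m) (Z σ (bv 0)) A y) : y ∈ Q σ (bv 0) := by
  have ex : ∀ c, ∃ u v a, Ip σ u v ∧ σ a = a ∧ y * E σ (bv 0) 0 c = E σ u v a := fun c => by
    obtain ⟨_, i, g, j, e⟩ := s _ (tv_Z (bv 0) c)
    obtain ⟨a, f, -, rfl⟩ := h.hA _ i
    exact ⟨_, _, a, d.ip01.cj (su_sem j), f, by rw [← e, E_cj1 (su_sem j)]⟩
  obtain ⟨u, v, a, p, f, e⟩ := ex 0
  rw [E_zero, mul_one] at e
  subst e
  have o := d.okp p f
  obtain ⟨u', v', a', p', f', e'⟩ := ex 1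
  have s1 := d.sqp p f
  have fx : E σ u v a (bv 0) = bv 0 := by
    obtain ⟨c, k⟩ := d.lineZ (E_sem u v a) (mem_of_eq (tv_Z (bv 0) 1) (by
      have := d.sqp p' f'
      rw [← e', ← mul_assoc] at this
      rw [inv_eq_of_mul_eq_one_right s1, eq_inv_of_mul_eq_one_left this, inv_eq_of_mul_eq_one_right (tv_sq _ _)]))
    have := congrArg (· (bv 0)) s1
    simp only [Perm.mul_apply, k, (E_sem u v a).smul1, smul_smul, Perm.one_apply] at this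
    rw [k, sq_inj (a := c) (b := 1) (smul_left_injective K d.b0 (by simpa using this)), one_smul]
  have u0 : hf σ (bv 0) u = 0 := by
    rw [E_ap o, add_assoc, add_eq_left, add_comm] at fx
    exact (li_eq p.li (a' := 0) (b' := 0) (by simpa using fx)).2
  have m0 : bv 0 ∈ Submodule.span K {u, v} := by
    by_contra k
    obtain ⟨x, x1, x2⟩ := d.part _ _ k
    have o' := d.okp p' f'
    have ap : ∀ y, E σ u' v' a' y = E σ u v a y + hf σ y (bv 0) • bv 0 := fun y => by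
      rw [← e', Perm.mul_apply, E_ap (d.ok1 d.b00), (E_sem u v a).add, (E_sem u v a).smul1, fx]; simp
    have j := imE o' x
    rw [ap, x1, one_smul, E_fix (x2 u (Submodule.subset_span (by simp))) (x2 v (Submodule.subset_span (by simp))),
      add_right_comm, vv, zero_add] at j
    obtain ⟨i1, i2⟩ := d.rk2 (T := Submodule.span K {u', v'}) p f fun y => by
      have := imE o' y
      rwa [ap, add_right_comm, add_mem_cancel_right (Submodule.smul_mem _ _ j)] at this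
    exact k (span2 p.li i1 i2 j)
  obtain ⟨α, β, e⟩ := Submodule.mem_span_pair.1 m0
  by_cases b0 : β = 0
  · rw [b0, zero_smul, add_zero] at e
    have a0 : α ≠ 0 := fun z => d.b0 (by rw [← e, z, zero_smul])
    obtain rfl : u = α⁻¹ • bv 0 := by rw [eq_inv_smul_iff₀ a0, e]
    exact d.E_sm o (inv_ne_zero a0)
  obtain ⟨β', α', b1, rfl⟩ : ∃ β' α' : K, β' ≠ 0 ∧ v = β' • bv 0 + α' • u := ⟨β⁻¹, β⁻¹ * α, inv_ne_zero b0, by
    rw [mul_smul, ← smul_add, eq_inv_smul_iff₀ b0, ← e, add_right_comm, vv, zero_add]⟩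
  have o2 := o.shift α'
  have e2 := E_shift o α'
  rw [add_assoc (β' • bv 0), vv, add_zero] at o2 e2
  have f2 := d.fix o2 (by simp [d.b00])
  rw [← e2] at ex ⊢
  generalize a + α' + σ α' = t at o2 ex f2
  by_cases t0 : t = 0
  · rw [t0, E_swap d.iv p.uu (by simp [d.b00]) o2.vn]
    exact d.E_sm (ok_iso d.iv (by simp [d.b00]) p.uu o2.vn) b1
  obtain ⟨u'', v'', a'', p'', f'', e''⟩ := ex (β' * σ β' / t)
  refine (d.rk1 (w := β' • bv 0 + t • u) p'' f'' fun y => ⟨σ β' * hf σ y (bv 0) / t + hf σ y u, ?_⟩).elim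
  rw [← e'', Perm.mul_apply, E_ap (d.okt d.b00 (by rw [map_div₀, map_mul, d.iv, f2, mul_comm])), E_ap o2]
  simp only [hf_add_l, hf_smul_l, hf_smul_r, hf_zero_r, u0, d.b00, smul_zero, add_zero, zero_add, mul_zero]
  match_scalars <;> field_simp <;> ring

theorem ord (l : Z σ (bv 0) ≤ V) (l' : V ≤ UT σ m) (k : ¬ Q σ (bv 0) ≤ V) : ∃ x ∈ Q σ (bv 0), x ∉ V ∧ x ∈ 𝐍 V ∧
    ∀ u ∈ V, u * u ∈ Z σ (bv 0) → ⁅x, u⁆ ∈ Z σ (bv 0) ∨ Sg (SU σ m) (Z σ (bv 0)) A ⁅x, u⁆ := by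
  obtain ⟨y, ⟨i, j⟩, r⟩ := SetLike.exists_of_lt ((d.sylU.pi.le (sup_le d.qu l')).nil.lt_inf_norm (right_lt_sup.2 k))
  obtain ⟨x, a, v, b, rfl⟩ := (mem_sup_norm' (l'.trans (d.UY.trans (d.YP.trans d.PQ)))).1 i
  refine ⟨x, a, fun e => r (mul_mem e b), (mul_mem_cancel_right (le_norm_self V b)).1 j, fun u i' e => ?_⟩
  obtain ⟨n, ζ, o, rfl⟩ := d.mQ.1 a
  obtain ⟨ζ', o', f⟩ := d.cmE o (d.UY (l' i'))
  have s := su_sem (d.US (l' i'))
  refine f ▸ d.sgQ h o' ?_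
  have := s.form1 (u n) n
  rw [show u (u n) = n from d.Zap e o.nv] at this
  rw [hf_add_l, hf_add_r, hf_add_r, s.form1, this]; grind

theorem gen (n : SU σ m ⊓ 𝐍 (Z σ (bv 0)) ≤ 𝐍 X)
    (k : ∀ u, Gi (SU σ m) (UT σ m) (fun x => cw θ * x * (cw θ)⁻¹) u → u ∈ X) : Y σ (bv 0) ≤ X := by
  have := d.hm
  have z := (d.zb (d.YP.trans n) (k _ (d.giE h (d.bU 0) d.b00 d.b11 d.b10 (cw_bv _ _) (cw_bv _ _)))).1
  have t := k _ h.t1
  refine d.yg X fun w a b => ?_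
  by_cases e : ∀ c : K, w ≠ c • bv 0
  · obtain ⟨l, j, e⟩ := d.wY (ip_of d.b00 d.b0 a b e)
    exact mem_of_eq (conj_mem_of_norm (n (d.YP j)) t) (by rw [tv_cj1 (su_sem j.1), e])
  · obtain ⟨c, rfl⟩ : ∃ c : K, w = c • bv 0 := by simpa using e
    exact z (d.tv_line c)

theorem mh : Mh (SU σ m) (UT σ m) (Z σ (bv 0)) (Q σ (bv 0)) (Y σ (bv 0)) (fun x => cw θ * x * (cw θ)⁻¹)
    (E σ (bv 0) 0 1) (E σ (bv 0) (bv 1) 0) A := by
  have s := cw_sem (m := m) h.com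
  refine ⟨le_antisymm (der_le _) d.perf, d.sylU, d.cZ, fun y _ i => d.zU (cent_anti d.qu i), tv_Z _ _, fun e => ?_,
    fun _ => d.zc, fun g i j => let ⟨_, e⟩ := d.lineZ (su_sem i) j; d.nZ (su_sem i) e, Z_le_Q, d.qu, d.PQ,
    commutator_le.2 fun x i y j => ?_, fun y i => ?_, .inr fun _ => d.z2, E_Q _ _ _,
    d.giE h (d.bU 0) d.b00 d.b11 d.b10 (cw_bv _ _) (cw_bv _ _), d.zd, fun X n i => (d.zb n i).1, fun _ => d.z4, fun c i => ?_,
    fun _ => d.sig h, fun X l k => d.ql X (fun a _ => l (tv_Z _ _)) fun n a b =>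
      (d.sgQ h (ok_iso d.iv d.b00 a b) a).elim (l ·) (k _ (E_Q _ _ _)),
    fun _ => d.ord h, fun _ => d.lev, fun _ => d.bor, d.UY, d.YP, d.yg _ fun w a b =>
      subset_closure ⟨d.EY b (hf_zero_l _) 1, e2_of (tv_sq _ _)⟩, fun _ => d.gen h, fun _ => d.nf,
    fun X n l i => d.ql X (fun a _ => l (tv_Z _ _)) (d.zb (d.YP.trans n) i).2, .inr ⟨_, d.cx h.bA⟩,
    by rw [tv_cj s, cw_bv, map_one], fun u i => UT_cj' s cw_fl i⟩
  · obtain ⟨y, k⟩ := d.partner d.b0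
    simpa [E_ap (d.ok1 d.b00), k, d.b0] using congrArg (· y) e
  · obtain ⟨n, ζ, o, rfl⟩ := d.mQ.1 i
    obtain ⟨n', ζ', o', rfl⟩ := d.mQ.1 j
    exact E_comm o o' ▸ tv_Z _ _
  · obtain ⟨n, ζ, o, rfl⟩ := d.mQ.1 i
    exact E_sq o ▸ tv_Z _ _
  · obtain ⟨a, e, f, rfl⟩ := h.hA c i
    exact ⟨d.bU a, d.sqp d.ip01 e, by rw [E_cj s, cw_bv, cw_bv, f]⟩

end Gm
end CF.S4q.EU
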