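import Cfsg.Agent.Sq.A2

/-! A standard subgroup `Sp₄(q)`, `q` even: definitions. -/

set_option autoImplicit false
set_option linter.unusedSectionVars false

namespace CF.S4q

open Subgroup Equiv CF.Loc CF.LX CF.Ud CF.Sq
open CF.Dbl (El)
open scoped commutatorElement

section abstract
variable {A Γ : Type*} [CommRing A] [Group Γ]

/-- root elements of type `B₂` in characteristic two; even indices are long roots -/
structure Rt (x : Fin 8 → A → Γ) : Prop where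
  add : ∀ i a b, x i (a + b) = x i a * x i b
  c1 : ∀ i a b, x i a * x (i + 1) b = x (i + 1) b * x i a
  c2 : ∀ i a b, x i a * x (i + 2) b = x (i + 2) b * x i a
  cp : ∀ j : Fin 8, Even j.val → ∀ a b, x (j + 3) a * x j b * (x (j + 3) a)⁻¹ = x j b * x (j + 1) (a * b) * x (j + 2) (a * a * b)
  cn : ∀ j : Fin 8, Even j.val → ∀ a b, x (j - 3) a * x j b * (x (j - 3) a)⁻¹ = x j b * x (j - 1) (a * b) * x (j - 2) (a * a * b)

omit [CommRing A] in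
/-- root groups -/
def Rg (x : Fin 8 → A → Γ) (i : Fin 8) : Subgroup Γ := closure (Set.range (x i))

/-- reflections -/
def nw (x : Fin 8 → A → Γ) (i : Fin 8) : Γ := x i 1 * x (i + 4) 1 * x i 1

/-- four consecutive groups -/
def Vs (J : Fin 8 → Subgroup Γ) (i : Fin 8) : Subgroup Γ := J i ⊔ J (i + 1) ⊔ J (i + 2) ⊔ J (i + 3)

/-- three consecutive groups -/
def Ws (J : Fin 8 → Subgroup Γ) (i : Fin 8) : Subgroup Γ := J (i + 1) ⊔ J (i + 2) ⊔ J (i + 3)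

/-- an octagon of root groups -/
structure Oc (U : Fin 8 → Subgroup Γ) : Prop where
  n0 : ∀ i, U i ≤ 𝐍(Ws U i)
  n4 : ∀ i, U (i + 4) ≤ 𝐍(Ws U i)
  gen : ∀ i, U i ≤ U (i - 1) ⊔ U (i + 1) ⊔ U (i + 2)
  lev : ∀ i, (U i ⊔ U (i + 4)) ⊓ Ws U i = ⊥
  der : ∀ i, U (i + 1) ≤ ⁅Vs U i, Vs U i⁆

/-- the same with rank one subgroups -/
structure Of (U : Fin 8 → Subgroup Γ) : Prop extends Oc U where
  ne : ∀ i, U i ≠ ⊥
  rk1 : ∀ i, ∀ u ∈ U (i + 4), u ≠ 1 → ∃ a ∈ U i, ∃ b ∈ U i, ∀ j, cj[a * u * b] (U j) = U (2 * i + 4 - j)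
  opp : Vs U 1 ⊓ 𝐍(Vs U 5) = ⊥
  out : ∀ j : Fin 8, U j ≤ Vs U 1 → j = 1 ∨ j = 2 ∨ j = 3 ∨ j = 4

/-- a family of graphs over an octagon -/
structure Gr {M X : Type*} [Group M] [Group X] (U : Fin 8 → Subgroup M) (J : Fin 8 → Subgroup (M × X)) : Prop where
  fst : ∀ i, (J i).map (MonoidHom.fst M X) = U i
  gr : ∀ i, ∀ p ∈ Vs J i, p.1 = 1 → p.2 = 1

/-- the groups generated by three families -/
def Jg (x y z : Fin 8 → A → Γ) (i : Fin 8) : Subgroup Γ := Rg x i ⊔ Rg y i ⊔ Rg z i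

/-- the relations in the Sylow subgroup of `U₅(q)` or `L₅(q)`; the correct value of `e` is `k` -/
structure Rc (k e : A) (x y z : Fin 8 → A → Γ) : Prop extends Rt x where
  zo : ∀ i : Fin 8, Odd i.val → ∀ d, z i d = 1
  xy : ∀ i a b, Commute (x i a) (y i b)
  xz : ∀ i a b, Commute (x i a) (z i b)
  ao : ∀ i : Fin 8, Odd i.val → ∀ a b, y i (a + b) = y i a * y i b
  ae : ∀ j : Fin 8, Even j.val → ∀ a b, y j (a * a) * y j (b * b) = y j ((a + b) * (a + b)) * x j (a * b)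
  za : ∀ j : Fin 8, Even j.val → ∀ a b, z j (a + b) = z j a * z j b * x j (k * a * b)
  zy : ∀ j : Fin 8, Even j.val → ∀ d a, z j d * y j (a * a) * (z j d)⁻¹ = y j (a * a) * x j (d * a)
  adj : ∀ i, Jg x y z i ≤ 𝐂(Jg x y z (i + 1))
  o3 : ∀ c a, y 3 c * x 1 a * (y 3 c)⁻¹ = x 1 a * x 2 (c * a)
  o1 : ∀ c a, y 1 c * x 3 a * (y 1 c)⁻¹ = x 3 a * x 2 (c * a)
  y13 : ∀ a b, Commute (y 1 a) (y 3 b)
  x24 : Rg x 2 ≤ 𝐂(Jg x y z 4)
  x42 : Rg x 4 ≤ 𝐂(Jg x y z 2)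
  y24 : ∀ a b, y 4 (b * b) * y 2 (a * a) * (y 4 (b * b))⁻¹ = y 2 (a * a) * x 3 (a * b)
  y4z : ∀ c d, (y 4 (c * c))⁻¹ * z 2 d * y 4 (c * c) = z 2 d * y 3 (d * c)
  y2z : ∀ c d, (y 2 (c * c))⁻¹ * z 4 d * y 2 (c * c) = z 4 d * y 3 (d * c) * x 3 (d * c)
  z42 : ∀ c d, (z 4 c)⁻¹ * z 2 d * z 4 c = z 2 d * x 3 (k * d * c)
  r14 : ∀ a b, x 1 a * y 4 b * (x 1 a)⁻¹ = y 4 b * y 2 (a * a * b) * y 3 (a * b) * x 3 (a * b)
  r41 : ∀ a b, x 4 b * y 1 a * (x 4 b)⁻¹ = y 1 a * y 3 (a * b) * x 2 (k * a * a * b)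
  y14 : ∀ a c, y 1 a * y 4 (c * c) * (y 1 a)⁻¹ = y 4 (c * c) * z 2 (a * c) * x 3 (k * a * c * c)
  x1z : ∀ a d, x 1 a * z 4 d * (x 1 a)⁻¹ = z 4 d * z 2 (a * d) * y 3 (k * a * d * d) * x 3 (k * a * d * d)
  y1z : ∀ a d, y 1 a * z 4 d * (y 1 a)⁻¹ =
    z 4 d * z 2 (a * d) * y 2 (k * k * a * a * d * d) * x 3 (k * k * a * d * d) * x 2 (e * a * a * d * d)

end abstract

variable {K : Type} [Field K] [CharP K 2]

/-- the model of `Sp₄(K)` -/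
abbrev P (K : Type) [Field K] [CharP K 2] : Type := SU (1 : K ≃+* K) 4

theorem sh_SU {i j : ℕ} (h : i + j ≠ 3) (c : K) : E (1 : K ≃+* K) (bv i : Fin 4 → K) (c • bv j) 0 ∈ SU 1 4 := by
  have e : ∀ i j : ℕ, i + j ≠ 3 → hf (1 : K ≃+* K) (bv i : Fin 4 → K) (bv j) = 0 := fun i j h =>
    Finset.sum_eq_zero fun l _ => by
      simp only [bv, Fin.val_rev]
      split_ifs <;> first | omega | simp
  rw [← tv_pol (fun _ => rfl) (e i i (by omega)) (e j j (by omega)) (e i j h) rfl]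
  exact mul_mem (mul_mem (tv_SU _ _) (tv_SU _ _)) (tv_SU _ _)

/-- root elements -/
noncomputable def xr (i : Fin 8) (c : K) : P K :=
  ![⟨_, tv_SU (bv 2) c⟩, ⟨_, sh_SU (i := 0) (j := 2) (by omega) c⟩, ⟨_, tv_SU (bv 0) c⟩, ⟨_, sh_SU (i := 0) (j := 1) (by omega) c⟩,
    ⟨_, tv_SU (bv 1) c⟩, ⟨_, sh_SU (i := 3) (j := 1) (by omega) c⟩, ⟨_, tv_SU (bv 3) c⟩, ⟨_, sh_SU (i := 3) (j := 2) (by omega) c⟩] i

/-- reflections; `nr 4` acts as `i ↦ 4 - i` and `nr 1` as `i ↦ 6 - i` -/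
noncomputable abbrev nr (K : Type) [Field K] [CharP K 2] (i : Fin 8) : P K := nw xr i

/-- the diagonal matrix with entries `l, m, m⁻¹, l⁻¹` -/
noncomputable def hr (l m : Kˣ) : P K :=
  xr 2 l.1 * xr 6 l⁻¹.1 * xr 2 l.1 * nr K 2 * (xr 4 m.1 * xr 0 m⁻¹.1 * xr 4 m.1 * nr K 4)

omit [CharP K 2] in
/-- the roots as characters -/
def al (i : Fin 8) (l m : Kˣ) : Kˣ := ![m⁻¹ * m⁻¹, l * m⁻¹, l * l, l * m, m * m, l⁻¹ * m, l⁻¹ * l⁻¹, l⁻¹ * m⁻¹] i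

variable (K) in
/-- root groups -/
noncomputable abbrev Xs (i : Fin 8) : Subgroup (P K) := Rg xr i

variable (K) in
/-- the Sylow subgroup -/
noncomputable abbrev Us : Subgroup (P K) := Vs (Xs K) 1

variable (K) in
/-- its centre -/
noncomputable def Zs : Subgroup (P K) := Xs K 2 ⊔ Xs K 3

variable (K) in
/-- the first maximal elementary abelian subgroup -/
noncomputable def A1 : Subgroup (P K) := Xs K 1 ⊔ Xs K 2 ⊔ Xs K 3

variable (K) in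
/-- the second maximal elementary abelian subgroup -/
noncomputable def A2 : Subgroup (P K) := Xs K 2 ⊔ Xs K 3 ⊔ Xs K 4

variable (K) in
/-- the torus -/
noncomputable def Hs : Subgroup (P K) := closure {g | ∃ l m, g = hr l m}

variable (K) in
/-- kernels of the roots -/
noncomputable def Ks (i : Fin 8) : Subgroup (P K) := Hs K ⊓ 𝐂(Xs K i)

variable (K) in
/-- the centraliser of the transvections in the centre -/
noncomputable def Ys : Subgroup (P K) := 𝐂(Xs K 2)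

/-- central involutions of mixed type -/
def Ct (g : P K) : Prop := ∃ a c, a ≠ 0 ∧ c ≠ 0 ∧ g = xr 2 a * xr 3 c

/-- field automorphisms -/
def St (β : MulAut (P K)) (θ : K ≃+* K) : Prop := ∀ i c, β (xr i c) = xr i (θ c)

omit [CharP K 2] in
/-- squaring on short roots -/
def dq (i : Fin 8) (c : K) : K := if Odd i.val then c * c else c

/-- graph automorphisms -/
def Sg (β : MulAut (P K)) (θ : K ≃+* K) : Prop := ∀ i c, β (xr i c) = xr (5 - i) (θ (dq i c))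

/-- standard automorphisms -/
def Sa (β : MulAut (P K)) : Prop := ∃ θ, St β θ ∨ Sg β θ

/-- fixed points -/
def Fx (β : MulAut (P K)) : Subgroup (P K) := β.toMonoidHom.eqLocus (MonoidHom.id _)

/-- automorphisms centralising `B` are induced by `D` -/
def CA (B D : Subgroup (P K)) : Prop := ∀ β : MulAut (P K), B ≤ Fx β → ∃ d ∈ D, β = MulAut.conj d

variable {G X : Type*} [Group G] [Group X]

/-- `y` acts as `β` -/
def Ac (ρ : P K →* G) (y : G) (β : MulAut (P K)) : Prop := ∀ g, y * ρ g * y⁻¹ = ρ (β g)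

/-- root elements -/
noncomputable abbrev xx (ρ : P K →* G) (i : Fin 8) (c : K) : G := ρ (xr i c)

/-- diagonal elements -/
noncomputable abbrev hh (ρ : P K →* G) (l m : Kˣ) : G := ρ (hr l m)

/-- reflections -/
noncomputable abbrev nx (ρ : P K →* G) (i : Fin 8) : G := ρ (nr K i)

/-- the Sylow subgroup of `⟨t⟩ L` -/
noncomputable def T0 (ρ : P K →* G) (t : G) : Subgroup G := zpowers t ⊔ (Us K).map ρ

/-- no graph automorphisms -/
def Ng (ρ : P K →* G) (t : G) : Prop := ∀ h ∈ 𝐂₁(t), ∃ ξ ∈ Gam (1 : K ≃+* K) 4, Ind ρ h ξ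

/-- the standing hypotheses -/
structure Al (ρ : P K →* G) (t : G) (F N : Subgroup G) (π : N →* X) (ρ' : P K →* X) (s : X) : Prop where
  d : Dq.Sm K 4
  f : Fr ρ t
  r : R2 ρ t
  o : Top ρ F
  c : Cn ρ t N π ρ' s

/-- elements acting trivially on `T0` modulo the centre -/
noncomputable def Dd (ρ : P K →* X) (s : X) : Subgroup X where
  carrier := {x | x ∈ 𝐍(T0 ρ s) ∧ ∀ y ∈ T0 ρ s, x * y * x⁻¹ * y⁻¹ ∈ 𝐂(T0 ρ s)}
  one_mem' := ⟨one_mem _, by simp⟩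
  mul_mem' := fun {a b} i j => ⟨mul_mem i.1 j.1, fun y k => by
    have := mul_mem (conj_mem_of_mem_normalizer (normalizer_le_normalizer_centralizer _ i.1) (j.2 y k)) (i.2 y k)
    convert this using 1; group⟩
  inv_mem' := fun {a} i => ⟨inv_mem i.1, fun y k => by
    have := inv_mem (conj_mem_of_mem_normalizer (normalizer_le_normalizer_centralizer _ (inv_mem i.1)) (i.2 y k))
    convert this using 1; group⟩

/-- `s` is moved along the root group -/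
def Mv (ρ : P K →* X) (s : X) (i : Fin 8) : Prop := ∀ c, ∃ x ∈ Dd ρ s, x * s * x⁻¹ = s * xx ρ i c

/-- elements moving `s` along a root group -/
noncomputable def RR (ρ : P K →* X) (s : X) (i : Fin 8) : Subgroup X where
  carrier := {y | y ∈ 𝐂((Ks K i).map ρ) ∧ y ∈ 𝐂((Xs K i).map ρ) ∧ s⁻¹ * (y * s * y⁻¹) ∈ (Xs K i).map ρ}
  one_mem' := ⟨one_mem _, one_mem _, by simp⟩
  mul_mem' := fun {a b} i j => ⟨mul_mem i.1 j.1, mul_mem i.2.1 j.2.1, by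
    have := mul_mem i.2.2 (conj_mem_of_mem_normalizer (centralizer_le_normalizer _ i.2.1) j.2.2)
    convert this using 1; group⟩
  inv_mem' := fun {a} i => ⟨inv_mem i.1, inv_mem i.2.1, by
    have := inv_mem (conj_mem_of_mem_normalizer (centralizer_le_normalizer _ (inv_mem i.2.1)) i.2.2)
    convert this using 1; group⟩

/-- the doubled root groups -/
noncomputable def YY (ρ : P K →* X) (s : X) (i : Fin 8) : Subgroup X := ⁅RR ρ s i, (Hs K).map ρ⁆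

/-- doubled root elements -/
structure Yi (ρ : P K →* X) (s : X) (i : Fin 8) (y : K → X) : Prop where
  mem : ∀ c, y c ∈ YY ρ s i
  zero : y 0 = 1
  tw : ∀ c, y c * s * (y c)⁻¹ = s * xx ρ i c
  eh : ∀ l m c, hh ρ l m * y c * (hh ρ l m)⁻¹ = y ((al i l m).1 * c)

/-- the long root in the centre -/
structure Y2 (ρ : P K →* X) (s : X) (y : K → X) (ν : K) : Prop extends Yi ρ s 2 y where
  dd : YY ρ s 2 ≤ Dd ρ s
  cA : YY ρ s 2 ≤ 𝐂((A1 K).map ρ)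
  c4 : ∀ a b, y (a * a) * xx ρ 4 (b * b) * (y (a * a))⁻¹ = xx ρ 4 (b * b) * xx ρ 3 (ν * a * b)

/-- the short root in the centre -/
structure Y3 (ρ : P K →* X) (s : X) (y : K → X) (μ : K) : Prop extends Yi ρ s 3 y where
  dd : YY ρ s 3 ≤ Dd ρ s
  cA : YY ρ s 3 ≤ 𝐂((A2 K).map ρ)
  c1 : ∀ c a, y c * xx ρ 1 a * (y c)⁻¹ = xx ρ 1 a * xx ρ 2 (μ * c * a)

/-- the doubled root elements, types A (`μ = 0`) and C (`μ = 1`) -/
structure Yc (ρ : P K →* X) (s : X) (y : Fin 8 → K → X) (μ k : K) : Prop extends C0 ρ s where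
  yi : ∀ i, Yi ρ s i (y i)
  mm : μ * μ = μ
  e4 : ∀ i c, nx ρ 4 * y i c * (nx ρ 4)⁻¹ = y (4 - i) c
  e1 : ∀ i c, nx ρ 1 * y i c * (nx ρ 1)⁻¹ = y (6 - i) c * xx ρ (6 - i) (if i = 3 ∨ i = 7 then μ * c else 0)
  xp : ∀ i c a, Commute (y i c) (xx ρ (i + 1) a)
  xm : ∀ i c a, Commute (y i c) (xx ρ (i - 1) a)
  yy : ∀ i c a, Commute (y i c) (y (i + 1) a)
  ep : ∀ j : Fin 8, Even j.val → ∀ c a, Commute (y j c) (xx ρ (j + 2) a)
  em : ∀ j : Fin 8, Even j.val → ∀ c a, Commute (y j c) (xx ρ (j - 2) a)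
  o3 : ∀ c a, y 3 c * xx ρ 1 a * (y 3 c)⁻¹ = xx ρ 1 a * xx ρ 2 (μ * c * a)
  o1 : ∀ c a, y 1 c * xx ρ 3 a * (y 1 c)⁻¹ = xx ρ 3 a * xx ρ 2 (μ * c * a)
  ao : ∀ i : Fin 8, Odd i.val → ∀ a b, y i (a + b) = y i a * y i b
  ae : ∀ j : Fin 8, Even j.val → ∀ a b, y j (a * a) * y j (b * b) = y j ((a + b) * (a + b)) * xx ρ j (μ * a * b)
  y13 : ∀ a b, Commute (y 1 a) (y 3 b)
  y24 : ∀ a b, y 4 (b * b) * y 2 (a * a) * (y 4 (b * b))⁻¹ = y 2 (a * a) * xx ρ 3 (μ * a * b)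
  r14 : ∀ a b, xx ρ 1 a * y 4 b * (xx ρ 1 a)⁻¹ = y 4 b * y 2 (a * a * b) * y 3 (a * b) * xx ρ 3 (μ * a * b)
  r41 : ∀ a b, xx ρ 4 b * y 1 a * (xx ρ 4 b)⁻¹ = y 1 a * y 3 (a * b) * y 2 ((1 + μ) * a * a * b) * xx ρ 2 (k * a * a * b)

/-- type A: root elements over the doubled ring -/
structure Ha (ρ : P K →* X) (s : X) (k : K) (z : Fin 8 → KK k → X) : Prop extends C0 ρ s, Rt z where
  re : ∀ i a, z i ⟨a, 0⟩ = xx ρ i a
  yi : ∀ i, Yi ρ s i fun c => z i ⟨0, c⟩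

/-- type A, field case: output -/
structure Fe (ρ : P K →* X) (s : X) (R : Subgroup X) : Prop where
  two : IsPGroup 2 R
  cl : ⁅R, R⁆ ≤ 𝐂(R)
  nrm : 𝐂₁(s) ⊓ 𝐍((Us K).map ρ) ≤ 𝐍(R)
  cap : R ⊓ 𝐂₁(s) = (Us K).map ρ
  ncl : R ≤ normalClosure (ρ.range : Set X)
  e0 : ∀ u ∈ R, s * u * (s * u) = 1 → ∃ c ∈ R, c * s * c⁻¹ = s * u
  ex : ∀ h ∈ 𝐂₁(s) ⊓ 𝐍((Us K).map ρ), ∀ u ∈ R, u * h * (u * h) = 1 → h ∈ T0 ρ s
  big : ∃ B ≤ R ⊓ 𝐂(R), El B ∧ Nat.card K ^ 4 ≤ Nat.card B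

/-- type C: the additional elements of the root group -/
structure Z2 (ρ : P K →* X) (s : X) (y : Fin 8 → K → X) (k : K) (z : K → X) : Prop extends Yc ρ s y 1 k where
  zY : ∀ d, z d ∈ 𝐂((Ys K).map ρ)
  zh : ∀ l m d, hh ρ l m * z d * (hh ρ l m)⁻¹ = z (l.1 * d)
  z1 : ∀ d a, Commute (z d) (y 1 a)
  z3 : ∀ d a, Commute (z d) (y 3 a)
  tz : ∀ d, z d * s * (z d)⁻¹ = s * y 2 (d * d) * xx ρ 2 (k * d * d)
  za : ∀ a b, z (a + b) = z a * z b * xx ρ 2 (k * a * b)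
  zy : ∀ d a, z d * y 2 (a * a) * (z d)⁻¹ = y 2 (a * a) * xx ρ 2 (d * a)
  y4z : ∀ c d, (y 4 (c * c))⁻¹ * z d * y 4 (c * c) = z d * y 3 (d * c)
  y14 : ∀ a c, y 1 a * y 4 (c * c) * (y 1 a)⁻¹ = y 4 (c * c) * z (a * c) * xx ρ 3 (k * a * c * c)

/-- type C: all relations -/
structure Zc (ρ : P K →* X) (s : X) (y z : Fin 8 → K → X) (k e : K) : Prop where
  z2 : Z2 ρ s y k (z 2)
  rc : Rc k e (xx ρ) y z
  e4 : ∀ i d, nx ρ 4 * z i d * (nx ρ 4)⁻¹ = z (4 - i) d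
  e1 : ∀ i d, nx ρ 1 * z i d * (nx ρ 1)⁻¹ = z (6 - i) d

/-- the involution `ω ↦ ω + 1` -/
abbrev sk (k : K) : KK k ≃+* KK k := sg k 1 (one_mul 1)

/-- Eichler transformations of the five-dimensional model -/
noncomputable def mg (k : K) (i : Fin 8) (n ζ : KK k) : Perm (Fin 5 → KK k) :=
  E (sk k) (bv (![3, 0, 0, 0, 1, 1, 4, 3] i)) (n • bv (![2, 3, 2, 1, 2, 4, 2, 4] i)) ζ

/-- root groups of the model -/
def Um (k : K) (i : Fin 8) : Subgroup (Perm (Fin 5 → KK k)) := closure {g | ∃ n ζ, (Odd i.val → ζ = 0) ∧ g = mg k i n ζ}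

/-- the model of `x` -/
noncomputable def mx (k : K) (i : Fin 8) (c : K) : Perm (Fin 5 → KK k) := if Odd i.val then mg k i ⟨c, 0⟩ 0 else mg k i 0 ⟨c, 0⟩

/-- the model of `z` -/
noncomputable def mz (k : K) (i : Fin 8) (d : K) : Perm (Fin 5 → KK k) := if Odd i.val then 1 else mg k i ⟨0, d⟩ ⟨0, k * d * d⟩

variable [Fintype K]

/-- square roots -/
noncomputable def rt (c : K) : K := (frobeniusEquiv K 2).symm c

theorem rt_sq (c : K) : rt c * rt c = c := by rw [← pow_two]; exact (frobeniusEquiv K 2).apply_symm_apply c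
@[simp] theorem rt_mul (c : K) : rt (c * c) = c := sq_inj (rt_sq _)

/-- the model of `y` -/
noncomputable def my (k : K) (i : Fin 8) (c : K) : Perm (Fin 5 → KK k) :=
  if Odd i.val then mg k i ⟨0, c⟩ 0 else mg k i ⟨rt c, 0⟩ ⟨0, c⟩

/-- type C: the family of graphs -/
structure Jc (ρ : P K →* X) (s : X) (k : K) (J : Fin 8 → Subgroup (Perm (Fin 5 → KK k) × X)) : Prop extends Gr (Um k) J where
  xJ : ∀ i c, (mx k i c, xx ρ i c) ∈ J i
  tJ : ∀ i, (cw (sk k), s) ∈ 𝐍(J i)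
  nor : 𝐂₁(s) ≤ 𝐍((⨆ i, J i).map (MonoidHom.snd _ _))
  ncl : (⨆ i, J i).map (MonoidHom.snd _ _) ≤ normalClosure (ρ.range : Set X)

end CF.S4q
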