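import Cfsg.Agent.S4q.A

/-! A standard subgroup `Sp₄(q)`, `q` even: abstract root elements. -/

set_option autoImplicit false
set_option linter.unusedSectionVars false

namespace CF.S4q

open Subgroup Equiv CF.Loc CF.LX CF.Ud CF.Sq
open scoped commutatorElement

variable {A Γ Γ' : Type*} [CommRing A] [CharP A 2] [Group Γ] [Group Γ'] {x : Fin 8 → A → Γ} {i j : Fin 8} {g : Γ} {ε : A}

omit [CommRing A] [CharP A 2] in
theorem x_Rg (x : Fin 8 → A → Γ) (i : Fin 8) (a : A) : x i a ∈ Rg x i := subset_closure ⟨a, rfl⟩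
theorem Vs1 (J : Fin 8 → Subgroup Γ) : Vs J 1 = J 1 ⊔ J 2 ⊔ J 3 ⊔ J 4 := rfl
theorem par_ind {p : Fin 8 → Prop} (h : ∀ i, p i → p (i + 2)) (k : p i) (e : Even j.val ↔ Even i.val) : p j := by
  have : j = i ∨ j = i + 2 ∨ j = i + 2 + 2 ∨ j = i + 2 + 2 + 2 := by clear k; revert i j; decide
  rcases this with rfl | rfl | rfl | rfl
  exacts [k, h _ k, h _ (h _ k), h _ (h _ (h _ k))]

namespace Rt
variable (r : Rt x)
include r
theorem zero (i : Fin 8) : x i 0 = 1 := by simpa using r.add i 0 0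
theorem sq (i : Fin 8) (a : A) : x i a * x i a = 1 := by rw [← r.add, CharTwo.add_self_eq_zero, r.zero]
theorem inv (i : Fin 8) (a : A) : (x i a)⁻¹ = x i a := inv_eq_of_mul_eq_one_left (r.sq i a)
theorem mem : g ∈ Rg x i ↔ ∃ a, g = x i a := by
  refine ⟨fun h => ?_, fun ⟨a, e⟩ => e ▸ x_Rg x i a⟩
  induction h using closure_induction with
  | mem _ e => exact e.imp fun _ => Eq.symm
  | one => exact ⟨0, (r.zero i).symm⟩
  | mul _ _ _ _ p q => obtain ⟨a, rfl⟩ := p; obtain ⟨b, rfl⟩ := q; exact ⟨_, (r.add ..).symm⟩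
  | inv _ _ p => obtain ⟨a, rfl⟩ := p; exact ⟨a, r.inv i a⟩
theorem map (f : Γ →* Γ') : Rt fun i a => f (x i a) :=
  ⟨fun i a b => by rw [r.add, map_mul], fun i a b => by rw [← map_mul, r.c1, map_mul], fun i a b => by rw [← map_mul, r.c2, map_mul],
    fun j e a b => by simpa using congrArg f (r.cp j e a b), fun j e a b => by simpa using congrArg f (r.cn j e a b)⟩
theorem rot (j : Fin 8) (e : Even j.val) : Rt fun i => x (i + j) := by
  have p : ∀ i : Fin 8, Even i.val → Even (i + j).val := by revert j; decide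
  refine ⟨fun i => r.add _, fun i => ?_, fun i => ?_, fun i k => ?_, fun i k => ?_⟩
  · simpa only [add_right_comm i _ j] using r.c1 (i + j)
  · simpa only [add_right_comm i _ j] using r.c2 (i + j)
  · simpa only [add_right_comm i _ j] using r.cp (i + j) (p i k)
  · simpa only [sub_add_eq_add_sub i _ j] using r.cn (i + j) (p i k)
theorem ref (j : Fin 8) (e : Even j.val) : Rt fun i => x (j - i) := by
  have p : ∀ i : Fin 8, Even i.val → Even (j - i).val := by revert j; decide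
  have s : ∀ i k : Fin 8, j - (i - k) = j - i + k := fun i k => by abel
  refine ⟨fun i => r.add _, fun i a b => ?_, fun i a b => ?_, fun i k => ?_, fun i k => ?_⟩
  · simpa only [sub_add_eq_sub_sub, sub_add_cancel] using (r.c1 (j - i - 1) b a).symm
  · simpa only [sub_add_eq_sub_sub, sub_add_cancel] using (r.c2 (j - i - 2) b a).symm
  · simpa only [sub_add_eq_sub_sub] using r.cn (j - i) (p i k)
  · simpa only [s] using r.cp (j - i) (p i k)
theorem mul (a b c e a' b' c' e' : A) : x 1 a * x 2 b * x 3 c * x 4 e * (x 1 a' * x 2 b' * x 3 c' * x 4 e') =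
    x 1 (a + a') * x 2 (b + b' + a' * a' * e) * x 3 (c + c' + a' * e) * x 4 (e + e') := by
  have l : ∀ {u v : Γ}, u * v = v * u → ∀ g, v * (u * g) = u * (v * g) := fun h g => by rw [← mul_assoc, ← h, mul_assoc]
  have h21 : ∀ a b g, x 2 a * (x 1 b * g) = x 1 b * (x 2 a * g) := fun a b => l (r.c1 1 b a)
  have h31 : ∀ a b g, x 3 a * (x 1 b * g) = x 1 b * (x 3 a * g) := fun a b => l (r.c2 1 b a)
  have h32 : ∀ a b g, x 3 a * (x 2 b * g) = x 2 b * (x 3 a * g) := fun a b => l (r.c1 2 b a)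
  have h42 : ∀ a b g, x 4 a * (x 2 b * g) = x 2 b * (x 4 a * g) := fun a b => l (r.c2 2 b a)
  have h43 : ∀ a b g, x 4 a * (x 3 b * g) = x 3 b * (x 4 a * g) := fun a b => l (r.c1 3 b a)
  have h41 : ∀ a b g, x 4 a * (x 1 b * g) = x 1 b * (x 4 a * (x 3 (b * a) * (x 2 (b * b * a) * g))) := fun a b g => by
    have : x 1 b * x 4 a * (x 1 b)⁻¹ = x 4 a * x 3 (b * a) * x 2 (b * b * a) := r.cn 4 (by decide) b a
    rw [← mul_assoc (x 4 a) (x 3 _), ← mul_assoc (_ * x 3 _), ← this, r.inv]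
    simp only [← mul_assoc, r.sq, one_mul]
  have m : ∀ i a b g, x i a * (x i b * g) = x i (a + b) * g := fun i a b g => by rw [r.add, mul_assoc]
  refine mul_right_cancel (b := x 0 0) ?_
  simp only [mul_assoc, h21, h31, h32, h42, h43, h41, m]
  simp only [add_comm, add_assoc]
omit r in
theorem e4 {a b c e a' b' c' e' : A} (h₁ : a = a') (h₂ : b = b') (h₃ : c = c') (h₄ : e = e') :
    x 1 a * x 2 b * x 3 c * x 4 e = x 1 a' * x 2 b' * x 3 c' * x 4 e' := by rw [h₁, h₂, h₃, h₄]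
theorem one : x 1 0 * x 2 0 * x 3 0 * x 4 0 = 1 := by simp [r.zero]
theorem inv4 (a b c e : A) : (x 1 a * x 2 b * x 3 c * x 4 e)⁻¹ = x 1 a * x 2 (b + a * a * e) * x 3 (c + a * e) * x 4 e :=
  inv_eq_of_mul_eq_one_right (by rw [r.mul, ← r.one]; apply e4 <;> grind)
theorem nf : g ∈ Vs (Rg x) 1 ↔ ∃ a b c e, g = x 1 a * x 2 b * x 3 c * x 4 e := by
  refine ⟨fun h => ?_, fun ⟨a, b, c, e, k⟩ => k ▸ mul_mem_sup (mul_mem_sup (mul_mem_sup (x_Rg _ _ _) (x_Rg _ _ _)) (x_Rg _ _ _)) (x_Rg _ _ _)⟩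
  let S : Subgroup Γ := ⟨⟨⟨{g | ∃ a b c e, g = x 1 a * x 2 b * x 3 c * x 4 e}, fun ⟨_, _, _, _, p⟩ ⟨_, _, _, _, q⟩ =>
    ⟨_, _, _, _, (congrArg₂ (· * ·) p q).trans (r.mul ..)⟩⟩, ⟨0, 0, 0, 0, r.one.symm⟩⟩, fun ⟨_, _, _, _, p⟩ => ⟨_, _, _, _, p ▸ r.inv4 ..⟩⟩
  refine (show Vs (Rg x) 1 ≤ S from sup_le (sup_le (sup_le ?_ ?_) ?_) ?_) h <;> intro g k <;> obtain ⟨a, rfl⟩ := r.mem.1 k
  exacts [⟨a, 0, 0, 0, by simp [r.zero]⟩, ⟨0, a, 0, 0, by simp [r.zero]⟩, ⟨0, 0, a, 0, by simp [r.zero]⟩,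
    ⟨0, 0, 0, a, by simp [r.zero]⟩]
theorem cm (a e a' e' b c b' c' : A) : ⁅x 1 a * x 2 b * x 3 c * x 4 e, x 1 a' * x 2 b' * x 3 c' * x 4 e'⁆ =
    x 2 (a * a * e' + a' * a' * e) * x 3 (a * e' + a' * e) := by
  rw [commutatorElement_def, r.inv4, r.inv4, r.mul, r.mul, r.mul, show a + a' + a + a' = 0 by grind,
    show e + e' + e + e' = 0 by grind, r.zero, r.zero, one_mul, mul_one]
  congr 2 <;> grind
theorem cen : Rg x 2 ⊔ Rg x 3 ≤ 𝐂(Vs (Rg x) 1) := by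
  have k : ∀ b c, x 1 0 * x 2 b * x 3 c * x 4 0 ∈ 𝐂(Vs (Rg x) 1) := fun b c g m => by
    obtain ⟨_, _, _, _, rfl⟩ := r.nf.1 m
    rw [r.mul, r.mul]; simp [add_comm]
  refine sup_le (fun g m => ?_) fun g m => ?_ <;> obtain ⟨a, rfl⟩ := r.mem.1 m
  · simpa [r.zero] using k a 0
  · simpa [r.zero] using k 0 a
theorem der : ⁅Vs (Rg x) 1, Vs (Rg x) 1⁆ ≤ Rg x 2 ⊔ Rg x 3 := commutator_le.2 fun _ i _ j => by
  obtain ⟨_, _, _, _, rfl⟩ := r.nf.1 i
  obtain ⟨_, _, _, _, rfl⟩ := r.nf.1 j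
  rw [r.cm]; exact mul_mem_sup (x_Rg _ _ _) (x_Rg _ _ _)
theorem two : IsPGroup 2 (Vs (Rg x) 1) := fun ⟨g, m⟩ => ⟨2, Subtype.ext (by
  obtain ⟨a, b, c, e, rfl⟩ := r.nf.1 m
  change (x 1 a * x 2 b * x 3 c * x 4 e) ^ (2 * 2) = 1
  rw [pow_mul, pow_two, pow_two, r.mul, r.mul, ← r.one]
  apply e4 <;> grind)⟩
theorem gen (i : Fin 8) : Rg x i ≤ Rg x (i - 1) ⊔ Rg x (i + 1) ⊔ Rg x (i + 2) := fun g m => by
  obtain ⟨b, rfl⟩ := r.mem.1 m
  have d : (Even i.val → Even (i + 2).val) ∧ (¬ Even i.val → Even (i - 1).val) ∧ i + 2 - 3 = i - 1 ∧ i + 2 - 1 = i + 1 ∧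
    i - 1 + 3 = i + 2 ∧ i - 1 + 2 = i + 1 := by clear m; revert i; decide
  have a : ∀ c, x (i - 1) c ∈ Rg x (i - 1) ⊔ Rg x (i + 1) ⊔ Rg x (i + 2) := fun c => mem_sup_left (mem_sup_left (x_Rg _ _ _))
  have a' : ∀ c, x (i + 1) c ∈ Rg x (i - 1) ⊔ Rg x (i + 1) ⊔ Rg x (i + 2) := fun c => mem_sup_left (mem_sup_right (x_Rg _ _ _))
  have a'' : ∀ c, x (i + 2) c ∈ Rg x (i - 1) ⊔ Rg x (i + 1) ⊔ Rg x (i + 2) := fun c => mem_sup_right (x_Rg _ _ _)
  by_cases e : Even i.val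
  · have := r.cn (i + 2) (d.1 e) 1 b
    rw [d.2.2.1, d.2.2.2.1, add_sub_cancel_right, one_mul,
      one_mul, one_mul, ← inv_mul_eq_iff_eq_mul] at this
    exact this ▸ mul_mem (inv_mem (mul_mem (a'' b) (a' b))) (mul_mem (mul_mem (a 1) (a'' b)) (inv_mem (a 1)))
  · have := r.cp (i - 1) (d.2.1 e) 1 b
    rw [d.2.2.2.2.1, d.2.2.2.2.2, sub_add_cancel, one_mul,
      one_mul, one_mul, ← mul_inv_eq_iff_eq_mul, ← inv_mul_eq_iff_eq_mul] at this
    exact this ▸ mul_mem (inv_mem (a b)) (mul_mem (mul_mem (mul_mem (a'' 1) (a b)) (inv_mem (a'' 1))) (inv_mem (a' b)))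
theorem idem (e : ε * ε = ε) : Rt fun i a => x i (ε * a) :=
  ⟨fun i a b => by rw [mul_add, r.add], fun i a b => r.c1 .., fun i a b => r.c2 .., fun j k a b => by
    rw [r.cp j k]; congr 2 <;> [congr 1; skip] <;> grind, fun j k a b => by rw [r.cn j k]; congr 2 <;> [congr 1; skip] <;> grind⟩
theorem com0 (n : j ≠ i + 4) {a b : A} (e : a * b = 0) : Commute (x i a) (x j b) := by
  have k : ∀ (i : Fin 8) {a b : A}, a * b = 0 → Commute (x i a) (x (i + 3) b) := fun i a b e => by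
    by_cases p : Even i.val
    · have := r.cp i p b a
      rw [mul_assoc b, mul_comm b a, e, mul_zero, r.zero, r.zero, mul_one, mul_one, mul_inv_eq_iff_eq_mul] at this
      exact this.symm
    · have := r.cn (i + 3) (by revert i; decide) a b
      rwa [mul_assoc a, e, mul_zero, r.zero, r.zero, mul_one, mul_one, mul_inv_eq_iff_eq_mul, add_sub_cancel_right] at this
  have : j = i ∨ j = i + 1 ∨ j = i + 2 ∨ j = i + 3 ∨ i = j + 1 ∨ i = j + 2 ∨ i = j + 3 := by revert i j; decide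
  rcases this with rfl | rfl | rfl | rfl | rfl | rfl | rfl
  exacts [by rw [Commute, SemiconjBy, ← r.add, ← r.add, add_comm], r.c1 .., r.c2 .., k _ e, (r.c1 ..).symm, (r.c2 ..).symm,
    (k _ (mul_comm a b ▸ e)).symm]
theorem split (e : ε * ε = ε) (i j : Fin 8) (a b : A) : Commute (x i (ε * a)) (x j ((1 + ε) * b)) := by
  have z : ∀ a, ε * a * ((1 + ε) * b) = 0 := fun a => by grind
  by_cases n : j = i + 4
  swap
  · exact r.com0 n (z a)
  have k : ∀ i', j ≠ i' + 4 → Rg (fun i a => x i (ε * a)) i' ≤ 𝐂₁(x j ((1 + ε) * b)) := fun i' n g m => by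
    obtain ⟨a, rfl⟩ := (r.idem e).mem.1 m
    exact mem_centralizer_singleton_iff.2 (r.com0 n (z a))
  have : j ≠ i - 1 + 4 ∧ j ≠ i + 1 + 4 ∧ j ≠ i + 2 + 4 := by clear k; revert i j; decide
  exact mem_centralizer_singleton_iff.1 (sup_le (sup_le (k _ this.1) (k _ this.2.1)) (k _ this.2.2) ((r.idem e).gen i (x_Rg _ i a)))
end Rt

/-- it suffices to check the relations in the Sylow subgroup -/
theorem Rt.of {n₁ n₄ : Γ} (e₁ : ∀ i a, n₁ * x i a * n₁⁻¹ = x (6 - i) a) (e₄ : ∀ i a, n₄ * x i a * n₄⁻¹ = x (4 - i) a)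
    (a₁ : ∀ a b, x 1 (a + b) = x 1 a * x 1 b) (a₂ : ∀ a b, x 2 (a + b) = x 2 a * x 2 b) (c₁ : ∀ a b, Commute (x 1 a) (x 2 b))
    (c₃ : ∀ a b, Commute (x 1 a) (x 3 b)) (c₄ : ∀ a b, Commute (x 2 a) (x 4 b))
    (c : ∀ a b, x 1 a * x 4 b * (x 1 a)⁻¹ = x 4 b * x 3 (a * b) * x 2 (a * a * b)) : Rt x := by
  have f : ∀ i a, MulAut.conj n₄ (x i a) = x (4 - i) a := e₄
  have f' : ∀ i a, MulAut.conj (n₁ * n₄) (x i a) = x (i + 2) a := fun i a => by
    rw [map_mul, MulAut.mul_apply, f, MulAut.conj_apply, e₁]; congr 1; revert i; decide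
  generalize MulAut.conj (n₁ * n₄) = φ at f'
  have s : ∀ i k : Fin 8, i - k + 2 = i + 2 - k := fun i k => sub_add_eq_add_sub ..
  have p : ∀ {p : Fin 8 → Prop}, (∀ i, p i → p (i + 2)) → p 1 → p 2 → ∀ i, p i := fun h a b i =>
    (em (Even i.val)).elim (fun e => par_ind h b (iff_of_true e (by decide))) fun e => par_ind h a (iff_of_false e (by decide))
  refine ⟨p (fun i h a b => ?_) a₁ a₂, p (fun i h a b => ?_) c₁ fun a b => ?_, p (fun i h a b => ?_) c₃ c₄,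
    fun j e => par_ind (p := fun j => ∀ a b, x (j + 3) a * x j b * (x (j + 3) a)⁻¹ = x j b * x (j + 1) (a * b) * x (j + 2) (a * a * b))
      (i := 0) (fun i h a b => ?_) (fun a b => ?_) (iff_of_true e (by decide)),
    fun j e => par_ind (p := fun j => ∀ a b, x (j - 3) a * x j b * (x (j - 3) a)⁻¹ = x j b * x (j - 1) (a * b) * x (j - 2) (a * a * b))
      (i := 4) (fun i h a b => ?_) c (iff_of_true e (by decide))⟩
  rotate_left 2
  · have := congrArg (MulAut.conj n₄) (c₁ b a).symm.eq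
    simp only [map_mul, f] at this
    exact this
  rotate_left 2
  · have := congrArg (MulAut.conj n₄) (c a b)
    simp only [map_mul, map_inv, f] at this
    exact this
  all_goals simpa only [map_mul, map_inv, f', add_right_comm _ _ (2 : Fin 8), s] using congrArg φ (h a b)

end CF.S4q
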