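import Cfsg.Agent.S4q.M0

/-! A standard subgroup `Sp₄(q)`, `q` even: relations in the model. -/

set_option autoImplicit false
set_option linter.unusedSectionVars false
set_option linter.unusedSimpArgs false

namespace CF.S4q

open Subgroup Equiv CF.Loc CF.LX CF.Ud CF.Sq
open scoped commutatorElement

variable {K : Type} [Field K] [Fintype K] [CharP K 2] {i j : Fin 8} {a b c e : K} {g u : P K} {B : Subgroup (P K)}
  {G : Type*} [Group G] [Finite G] {ξ : Perm (Fin 4 → K)}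

theorem fin8 (i : Fin 8) : i = 0 ∨ i = 1 ∨ i = 2 ∨ i = 3 ∨ i = 4 ∨ i = 5 ∨ i = 6 ∨ i = 7 := by revert i; decide
omit [Fintype K] [CharP K 2] in
theorem hf4 (x y : Fin 4 → K) : hf 1 x y = x 0 * y 3 + x 1 * y 2 + x 2 * y 1 + x 3 * y 0 := by
  simp only [hf, Fin.sum_univ_four]; rfl
omit [Fintype K] in
theorem ok4 {v n : Fin 4 → K} (h : hf 1 n v = 0) (ζ : K) : Ok 1 v n ζ :=
  ⟨fun _ => rfl, by rw [hf4]; grind, h, by rw [hf4]; change ζ + ζ = _; grind⟩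
omit [Field K] [Fintype K] [CharP K 2] in
theorem v4 {p q r s p' q' r' s' : K} : ![p, q, r, s] = ![p', q', r', s'] ↔ p = p' ∧ q = q' ∧ r = r' ∧ s = s' := by simp
omit [Field K] [Fintype K] [CharP K 2] in
theorem ex4 (x : Fin 4 → K) : ∃ p q r s, x = ![p, q, r, s] := ⟨x 0, x 1, x 2, x 3, by ext i; fin_cases i <;> rfl⟩
omit [Fintype K] in
theorem P_ext (h : ∀ p q r s, g.1 ![p, q, r, s] = u.1 ![p, q, r, s]) : g = u := Subtype.ext (Equiv.ext fun x => by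
  obtain ⟨_, _, _, _, rfl⟩ := ex4 x; exact h ..)
omit [Fintype K] [CharP K 2] in
theorem bv4 : (bv 0 : Fin 4 → K) = ![1, 0, 0, 0] ∧ (bv 1 : Fin 4 → K) = ![0, 1, 0, 0] ∧ (bv 2 : Fin 4 → K) = ![0, 0, 1, 0] ∧
    (bv 3 : Fin 4 → K) = ![0, 0, 0, 1] := by
  refine ⟨?_, ?_, ?_, ?_⟩ <;> ext i <;> fin_cases i <;> simp [bv]

section
omit [Fintype K]
variable (c p q r s : K)
theorem xr_ap (i : Fin 8) : (xr i c).1 ![p, q, r, s] = ![![p, q, r + c * q, s], ![p + c * q, q, r + c * s, s], ![p + c * s, q, r, s],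
    ![p + c * r, q + c * s, r, s], ![p, q + c * r, r, s], ![p, q + c * p, r, s + c * r], ![p, q, r, s + c * p],
    ![p, q, r + c * p, s + c * q]] i := by
  rcases fin8 i with rfl | rfl | rfl | rfl | rfl | rfl | rfl | rfl <;>
  · refine (E_ap (ok4 (by simp [hf4, bv4]) _) _).trans ?_
    simp [hf4, bv4, mul_comm]
theorem x0_ap : (xr 0 c).1 ![p, q, r, s] = ![p, q, r + c * q, s] := xr_ap c p q r s 0
theorem x1_ap : (xr 1 c).1 ![p, q, r, s] = ![p + c * q, q, r + c * s, s] := xr_ap c p q r s 1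
theorem x2_ap : (xr 2 c).1 ![p, q, r, s] = ![p + c * s, q, r, s] := xr_ap c p q r s 2
theorem x3_ap : (xr 3 c).1 ![p, q, r, s] = ![p + c * r, q + c * s, r, s] := xr_ap c p q r s 3
theorem x4_ap : (xr 4 c).1 ![p, q, r, s] = ![p, q + c * r, r, s] := xr_ap c p q r s 4
theorem x5_ap : (xr 5 c).1 ![p, q, r, s] = ![p, q + c * p, r, s + c * r] := xr_ap c p q r s 5
theorem x6_ap : (xr 6 c).1 ![p, q, r, s] = ![p, q, r, s + c * p] := xr_ap c p q r s 6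
theorem x7_ap : (xr 7 c).1 ![p, q, r, s] = ![p, q, r + c * p, s + c * q] := xr_ap c p q r s 7
theorem P_mul (g u : P K) (x : Fin 4 → K) : (g * u).1 x = g.1 (u.1 x) := rfl
theorem P_one (x : Fin 4 → K) : (1 : P K).1 x = x := rfl
end

theorem nr_ap (i : Fin 8) (p q r s : K) : (nr K i).1 ![p, q, r, s] = ![![p, r, q, s], ![q, p, s, r], ![s, q, r, p], ![r, s, p, q],
    ![p, r, q, s], ![q, p, s, r], ![s, q, r, p], ![r, s, p, q]] i := by
  rcases fin8 i with rfl | rfl | rfl | rfl | rfl | rfl | rfl | rfl <;>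
  · simp only [P_mul, nw, xr_ap, Fin.reduceAdd, Matrix.cons_val, v4]; grind
theorem hr_ap (l m : Kˣ) (p q r s : K) : (hr l m).1 ![p, q, r, s] = ![l.1 * p, m.1 * q, m⁻¹.1 * r, l⁻¹.1 * s] := by
  have := l.mul_inv; have := m.mul_inv
  simp only [hr, P_mul, nr_ap, xr_ap, Matrix.cons_val, v4]; grind
theorem nr_sq (i : Fin 8) : nr K i * nr K i = 1 := P_ext fun p q r s => by
  rcases fin8 i with rfl | rfl | rfl | rfl | rfl | rfl | rfl | rfl <;> simp only [P_mul, P_one, nr_ap, Matrix.cons_val]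
theorem nr_opp (i : Fin 8) : nr K (i + 4) = nr K i := P_ext fun p q r s => by
  rcases fin8 i with rfl | rfl | rfl | rfl | rfl | rfl | rfl | rfl <;> simp only [nr_ap, Fin.reduceAdd, Matrix.cons_val]
theorem nr_cj (i j : Fin 8) (c : K) : nr K i * xr j c * (nr K i)⁻¹ = xr (2 * i + 4 - j) c :=
  mul_inv_eq_iff_eq_mul.2 (P_ext fun p q r s => by
    rcases fin8 i with rfl | rfl | rfl | rfl | rfl | rfl | rfl | rfl <;>
    rcases fin8 j with rfl | rfl | rfl | rfl | rfl | rfl | rfl | rfl <;>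
    simp only [P_mul, nr_ap, xr_ap, Fin.reduceAdd, Fin.reduceSub, Fin.reduceMul, Matrix.cons_val])
theorem n4_cj (j : Fin 8) (c : K) : nr K 4 * xr j c * (nr K 4)⁻¹ = xr (4 - j) c := nr_cj 4 j c
theorem n1_cj (j : Fin 8) (c : K) : nr K 1 * xr j c * (nr K 1)⁻¹ = xr (6 - j) c := nr_cj 1 j c
theorem rt_xr : Rt (xr : Fin 8 → K → P K) := by
  refine .of n1_cj n4_cj (fun a b => ?_) (fun a b => ?_) (fun a b => ?_) (fun a b => ?_) (fun a b => ?_)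
    fun a b => mul_inv_eq_iff_eq_mul.2 ?_ <;>
  · refine P_ext fun p q r s => ?_
    simp only [P_mul, xr_ap, Matrix.cons_val, v4] <;> grind
theorem xr_inj (h : xr i a = xr i b) : a = b := by
  have := congrArg (fun g : P K => g.1 ![1, 1, 1, 1]) h
  rcases fin8 i with rfl | rfl | rfl | rfl | rfl | rfl | rfl | rfl <;>
  · simp only [xr_ap, Matrix.cons_val, v4] at this; grind
theorem hr_cj (i : Fin 8) (l m : Kˣ) (c : K) : hr l m * xr i c * (hr l m)⁻¹ = xr i ((al i l m).1 * c) :=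
  mul_inv_eq_iff_eq_mul.2 (P_ext fun p q r s => by
    have := l.mul_inv; have := m.mul_inv
    rcases fin8 i with rfl | rfl | rfl | rfl | rfl | rfl | rfl | rfl <;>
    · simp only [P_mul, hr_ap, xr_ap, al, Matrix.cons_val, v4, Units.val_mul]; grind)
theorem hr_mul (l m l' m' : Kˣ) : hr (l * l') (m * m') = hr l m * hr l' m' := P_ext fun p q r s => by
  simp only [P_mul, hr_ap, v4, mul_inv, Units.val_mul, mul_assoc, and_self]
theorem hr_one : hr (1 : Kˣ) 1 = 1 := P_ext fun p q r s => by simp [hr_ap]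
theorem hr_inv (l m : Kˣ) : (hr l m)⁻¹ = hr l⁻¹ m⁻¹ := inv_eq_of_mul_eq_one_right (by rw [← hr_mul, mul_inv_cancel, mul_inv_cancel, hr_one])
theorem hr_H (l m : Kˣ) : hr l m ∈ Hs K := subset_closure ⟨l, m, rfl⟩
theorem mem_H : g ∈ Hs K ↔ ∃ l m, g = hr l m := by
  refine ⟨fun h => ?_, fun ⟨_, _, e⟩ => e ▸ hr_H _ _⟩
  induction h using closure_induction with
  | mem _ e => exact e
  | one => exact ⟨1, 1, hr_one.symm⟩
  | mul _ _ _ _ p q => obtain ⟨_, _, rfl⟩ := p; obtain ⟨_, _, rfl⟩ := q; exact ⟨_, _, (hr_mul ..).symm⟩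
  | inv _ _ p => obtain ⟨_, _, rfl⟩ := p; exact ⟨_, _, hr_inv ..⟩
theorem braid : nr K 1 * nr K 4 * nr K 1 * nr K 4 = nr K 4 * nr K 1 * nr K 4 * nr K 1 := P_ext fun p q r s => by
  simp only [P_mul, nr_ap, Matrix.cons_val]
theorem nr_h (i : Fin 8) (l m : Kˣ) : nr K i * hr l m * (nr K i)⁻¹ =
    hr (![l, m, l⁻¹, m⁻¹, l, m, l⁻¹, m⁻¹] i) (![m⁻¹, l, m, l⁻¹, m⁻¹, l, m, l⁻¹] i) :=
  mul_inv_eq_iff_eq_mul.2 (P_ext fun p q r s => by
    rcases fin8 i with rfl | rfl | rfl | rfl | rfl | rfl | rfl | rfl <;> simp only [P_mul, nr_ap, hr_ap, Matrix.cons_val, inv_inv])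
theorem n4_h (l m : Kˣ) : nr K 4 * hr l m * (nr K 4)⁻¹ = hr l m⁻¹ := nr_h 4 l m
theorem n1_h (l m : Kˣ) : nr K 1 * hr l m * (nr K 1)⁻¹ = hr m l := nr_h 1 l m
theorem n_H (i : Fin 8) : nr K i ∈ 𝐍(Hs K) := mem_normalizer_of_conj_mem fun g h => by
  obtain ⟨l, m, rfl⟩ := mem_H.1 h
  rw [nr_h]; exact hr_H _ _
theorem sl2 (i : Fin 8) (l : Kˣ) : xr i l.1 * xr (i + 4) l⁻¹.1 * xr i l.1 * nr K i =
    hr (![1, l, l, l, 1, l⁻¹, l⁻¹, l⁻¹] i) (![l⁻¹, l⁻¹, 1, l, l, l, 1, l⁻¹] i) := P_ext fun p q r s => by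
  have := l.mul_inv
  rcases fin8 i with rfl | rfl | rfl | rfl | rfl | rfl | rfl | rfl <;>
  · simp only [P_mul, hr_ap, nr_ap, xr_ap, Fin.reduceAdd, Matrix.cons_val, v4, inv_inv, inv_one, Units.val_one]; grind

theorem gen (h : ∀ i c, xr i c ∈ B) : B = ⊤ := by
  have n : ∀ i, nr K i ∈ B := fun i => mul_mem (mul_mem (h ..) (h ..)) (h ..)
  have k : ∀ p q r s : K, s ≠ 0 → ∃ g ∈ B, ∃ c : K, g.1 ![p, q, r, s] = c • bv 0 := fun p q r s e =>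
    ⟨_, mul_mem (mul_mem (mul_mem (n 2) (h 2 ((p + r / s * q) / s))) (h 3 (q / s))) (h 1 (r / s)), s, by
      simp only [P_mul, nr_ap, xr_ap, Matrix.cons_val, bv4, Matrix.smul_cons, Matrix.smul_empty, smul_eq_mul, v4]; grind⟩
  have k' : ∀ v : Fin 4 → K, ∃ g ∈ B, ∃ c : K, g.1 v = c • bv 0 := fun v => by
    obtain ⟨p, q, r, s, rfl⟩ := ex4 v
    have t : ∀ i, ((nr K i).1 ![p, q, r, s]) 3 ≠ 0 → ∃ g ∈ B, ∃ c : K, g.1 ![p, q, r, s] = c • bv 0 := fun i e => by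
      obtain ⟨p', q', r', s', z⟩ := ex4 ((nr K i).1 ![p, q, r, s])
      obtain ⟨g, m, c, f⟩ := k p' q' r' s' (by rwa [z] at e)
      exact ⟨_, mul_mem m (n i), c, by rw [P_mul, z, f]⟩
    by_contra z
    have a0 := mt (t 0) z; have a1 := mt (t 1) z; have a2 := mt (t 2) z; have a3 := mt (t 3) z
    simp only [nr_ap, Matrix.cons_val, not_not] at a0 a1 a2 a3
    exact z ⟨1, one_mem _, 0, by simp [*]⟩
  refine eq_top_iff.2 fun g _ => ?_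
  obtain ⟨g', m, e⟩ := SU_iso (σ := 1) (fun _ => rfl) (H := B.map (SU 1 4).subtype) (fun v a _ _ => by
    obtain ⟨g, m, c, e⟩ := k' v
    refine ⟨_, mul_mem (mul_mem (inv_mem m) (h 2 (c * c * a))) m, ?_⟩
    have := tv_cj1 (su_sem g.2) v a
    rw [e, tv_smul (fun _ => rfl) (by simp [hf4, bv4]) rfl, mul_inv_eq_iff_eq_mul, ← eq_inv_mul_iff_mul_eq, ← mul_assoc] at this
    exact this.symm) g.2
  exact Subtype.ext e ▸ m
theorem x_U (h : i = 1 ∨ i = 2 ∨ i = 3 ∨ i = 4) (c : K) : xr i c ∈ Us K := by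
  rcases h with rfl | rfl | rfl | rfl
  exacts [mem_sup_left (mem_sup_left (mem_sup_left (x_Rg _ _ _))), mem_sup_left (mem_sup_left (mem_sup_right (x_Rg _ _ _))),
    mem_sup_left (mem_sup_right (x_Rg _ _ _)), mem_sup_right (x_Rg _ _ _)]
theorem gen' (h : Us K ≤ B) (h₁ : nr K 1 ∈ B) (h₄ : nr K 4 ∈ B) : B = ⊤ := by
  have a : ∀ i c, xr i c ∈ B → xr (6 - i) c ∈ B := fun i c m => n1_cj i c ▸ mul_mem (mul_mem h₁ m) (inv_mem h₁)
  have b : ∀ i c, xr i c ∈ B → xr (4 - i) c ∈ B := fun i c m => n4_cj i c ▸ mul_mem (mul_mem h₄ m) (inv_mem h₄)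
  refine gen fun i c => ?_
  rcases fin8 i with rfl | rfl | rfl | rfl | rfl | rfl | rfl | rfl
  exacts [b 4 c (h (x_U (by simp) c)), h (x_U (by simp) c), h (x_U (by simp) c), h (x_U (by simp) c), h (x_U (by simp) c),
    a 1 c (h (x_U (by simp) c)), a 0 c (b 4 c (h (x_U (by simp) c))), b 5 c (a 1 c (h (x_U (by simp) c)))]
theorem hom_ext {Γ : Type*} [Group Γ] {f f' : P K →* Γ} (h : ∀ i c, f (xr i c) = f' (xr i c)) : f = f' :=
  MonoidHom.ext fun g => (gen (B := f.eqLocus f') h).ge (mem_top g)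
theorem x2_tv (ρ : P K →* G) (c : K) : xx ρ 2 c = tv ρ (bv 0) c := (up_coe (xr 2 c)).symm
theorem x3_ev (ρ : P K →* G) (c : K) : xx ρ 3 c = ev ρ (bv 0) (c • bv 1) 0 := (up_coe (xr 3 c)).symm
theorem map_im (ρ : P K →* G) (B : Subgroup (P K)) : B.map ρ = im ρ (B.map (SU 1 4).subtype) := by
  rw [im, subgroupOf, comap_map_eq_self_of_injective (subtype_injective _)]

omit [Fintype K] [CharP K 2] in
theorem sem4 (h : Sem 1 1 ξ) (p q r s : K) :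
    ξ ![p, q, r, s] = p • ξ ![1, 0, 0, 0] + q • ξ ![0, 1, 0, 0] + r • ξ ![0, 0, 1, 0] + s • ξ ![0, 0, 0, 1] := by
  simp only [← h.smul1, ← h.add]; simp
theorem u_ap (a b c e p q r s : K) : (xr 1 a * xr 2 b * xr 3 c * xr 4 e).1 ![p, q, r, s] =
    ![p + a * q + (c + a * e) * r + (b + a * c) * s, q + e * r + c * s, r + a * s, s] := by
  simp only [P_mul, xr_ap, Matrix.cons_val, v4]; grind
theorem tri (h : Sem 1 1 ξ) {d f k : K} (h0 : ξ ![1, 0, 0, 0] = ![1, 0, 0, 0]) (h1 : ξ ![0, 1, 0, 0] = ![a, 1, 0, 0])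
    (h2 : ξ ![0, 0, 1, 0] = ![d, e, 1, 0]) (h3 : ξ ![0, 0, 0, 1] = ![b, c, f, k]) : ξ = (xr 1 a * xr 2 (b + a * c) * xr 3 c * xr 4 e).1 :=
  Equiv.ext fun x => by
    obtain ⟨p, q, r, s, rfl⟩ := ex4 x
    have e0 := h.form1 ![1, 0, 0, 0] ![0, 0, 0, 1]
    have e1 := h.form1 ![0, 1, 0, 0] ![0, 0, 0, 1]
    have e2 := h.form1 ![0, 0, 1, 0] ![0, 0, 0, 1]
    simp only [h0, h1, h2, h3, hf4, Matrix.cons_val] at e0 e1 e2
    rw [sem4 h, h0, h1, h2, h3, u_ap]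
    simp only [Matrix.smul_cons, Matrix.smul_empty, smul_eq_mul, Matrix.cons_add_cons, Matrix.empty_add_empty, v4]
    grind
omit [Fintype K] [CharP K 2] in
theorem Vf4 {p q r s : K} {j : ℕ} : ![p, q, r, s] ∈ Vf K 4 j ↔ (j ≤ 0 → p = 0) ∧ (j ≤ 1 → q = 0) ∧ (j ≤ 2 → r = 0) ∧ (j ≤ 3 → s = 0) := by
  simp [mem_Vf, Fin.forall_fin_succ]
theorem U_UT : (Us K).map (SU 1 4).subtype = UT 1 4 := by
  refine le_antisymm (map_le_iff_le_comap.2 fun g m => ?_) fun ξ ⟨h, _, _, k, _⟩ => ?_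
  · have k : ∀ g ∈ Us K, ∀ j, ∀ x ∈ Vf K 4 (j + 1), g.1 x - x ∈ Vf K 4 j := fun g m j x i => by
      obtain ⟨a, b, c, e, rfl⟩ := rt_xr.nf.1 m
      obtain ⟨p, q, r, s, rfl⟩ := ex4 x
      simp only [u_ap, Matrix.cons_sub_cons, Matrix.empty_sub_empty, Vf4] at i ⊢
      grind
    exact ⟨su_sem g.2, (su_sem g.2).add, (su_sem g.2).smul1, k g m, k _ (inv_mem m)⟩
  obtain ⟨_, _, _, _, h0⟩ := ex4 (ξ ![1, 0, 0, 0])
  obtain ⟨_, _, _, _, h1⟩ := ex4 (ξ ![0, 1, 0, 0])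
  obtain ⟨_, _, _, _, h2⟩ := ex4 (ξ ![0, 0, 1, 0])
  obtain ⟨_, _, _, _, h3⟩ := ex4 (ξ ![0, 0, 0, 1])
  have k0 := k 0 ![1, 0, 0, 0] (by simp [Vf4])
  have k1 := k 1 ![0, 1, 0, 0] (by simp [Vf4])
  have k2 := k 2 ![0, 0, 1, 0] (by simp [Vf4])
  simp only [h0, h1, h2, Matrix.cons_sub_cons, Matrix.empty_sub_empty, Vf4, sub_eq_zero] at k0 k1 k2
  exact ⟨_, rt_xr.nf.2 ⟨_, _, _, _, rfl⟩, (tri h (by rw [h0]; simp [k0]) (by rw [h1]; simp [k1]; rfl) (by rw [h2]; simp [k2]; exact ⟨rfl, rfl⟩) h3).symm⟩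
theorem A1_nf (a b c : K) : xr 1 a * xr 2 b * xr 3 c ∈ A1 K := mul_mem_sup (mul_mem_sup (x_Rg _ _ _) (x_Rg _ _ _)) (x_Rg _ _ _)
theorem A2_nf (b c e : K) : xr 2 b * xr 3 c * xr 4 e ∈ A2 K := mul_mem_sup (mul_mem_sup (x_Rg _ _ _) (x_Rg _ _ _)) (x_Rg _ _ _)
theorem X_le {H : Subgroup (Perm (Fin 4 → K))} (h : ∀ c, (xr i c).1 ∈ H) : (Xs K i).map (SU 1 4).subtype ≤ H :=
  map_le_iff_le_comap.2 fun g m => by obtain ⟨c, rfl⟩ := rt_xr.mem.1 m; exact h c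
theorem A1_Q : (A1 K).map (SU 1 4).subtype = Q 1 (bv 0) := by
  refine le_antisymm ?_ fun ξ m => ?_
  · simp only [A1, Subgroup.map_sup]
    exact sup_le (sup_le (X_le fun _ => E_Q _ _ _) (X_le fun _ => E_Q _ _ _)) (X_le fun _ => E_Q _ _ _)
  obtain ⟨n, ζ, o, rfl⟩ := (mem_Q (fun _ => rfl) (by simp [hf4, bv4])).1 m
  obtain ⟨p', q', r', s', rfl⟩ := ex4 n
  refine ⟨_, A1_nf r' (ζ + r' * q') q', Equiv.ext fun x => ?_⟩
  obtain ⟨p, q, r, s, rfl⟩ := ex4 x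
  have := o.nv
  rw [E_ap o]
  simp only [coe_subtype, P_mul, xr_ap, hf4, bv4, Matrix.cons_val, Matrix.smul_cons, Matrix.smul_empty, smul_eq_mul,
    Matrix.cons_add_cons, Matrix.empty_add_empty, v4] at this ⊢
  grind
theorem A2_W : (A2 K).map (SU 1 4).subtype = WW 1 4 := by
  refine le_antisymm ?_ fun ξ ⟨h, k⟩ => ?_
  · simp only [A2, Subgroup.map_sup]
    refine sup_le (sup_le (X_le fun _ => ?_) (X_le fun _ => ?_)) (X_le fun _ => ?_) <;>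
    · refine ⟨su_sem (xr _ _).2, fun x => ?_⟩
      obtain ⟨p, q, r, s, rfl⟩ := ex4 x
      simp only [xr_ap, Matrix.cons_val, Matrix.cons_sub_cons, Matrix.empty_sub_empty, Vf4]; simp
  obtain ⟨_, _, _, _, h0⟩ := ex4 (ξ ![1, 0, 0, 0])
  obtain ⟨_, _, _, _, h1⟩ := ex4 (ξ ![0, 1, 0, 0])
  obtain ⟨_, _, _, _, h2⟩ := ex4 (ξ ![0, 0, 1, 0])
  obtain ⟨_, _, _, _, h3⟩ := ex4 (ξ ![0, 0, 0, 1])
  have k0 := k ![1, 0, 0, 0]
  have k1 := k ![0, 1, 0, 0]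
  have k2 := k ![0, 0, 1, 0]
  have k3 := k ![0, 0, 0, 1]
  have e0 := h.form1 ![1, 0, 0, 0] ![0, 0, 0, 1]
  have e1 := h.form1 ![1, 0, 0, 0] ![0, 0, 1, 0]
  have e2 := h.form1 ![0, 1, 0, 0] ![0, 0, 0, 1]
  have e3 := h.form1 ![0, 1, 0, 0] ![0, 0, 1, 0]
  simp only [h0, h1, h2, h3, Matrix.cons_sub_cons, Matrix.empty_sub_empty, Vf4, sub_eq_zero, hf4, Matrix.cons_val] at k0 k1 k2 k3 e0 e1 e2 e3
  have := tri (a := 0) h (by rw [h0, v4]; grind) (by rw [h1, v4]; grind) (h2.trans (v4.2 ⟨rfl, rfl, by grind, by grind⟩)) h3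
  rw [rt_xr.zero, one_mul] at this
  exact ⟨_, A2_nf _ _ _, this.symm⟩
theorem Y_Y : (Ys K).map (SU 1 4).subtype = Y 1 (bv 0) := by
  refine le_antisymm (map_le_iff_le_comap.2 fun g m => ⟨g.2, ?_⟩) fun ξ ⟨h, k⟩ => ⟨⟨ξ, h⟩, fun g m => ?_, rfl⟩
  · have e := tv_cj1 (su_sem g.2) (bv 0) 1
    have e' : g.1 * E 1 (bv 0) 0 1 * g.1⁻¹ = (xr 2 1).1 := mul_inv_eq_iff_eq_mul.2 (congrArg Subtype.val (m _ (x_Rg xr 2 1))).symm
    rw [e'] at e
    replace e := congrArg (· ![0, 0, 0, 1]) e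
    change g.1 (bv 0) = bv 0
    obtain ⟨p, q, r, s, z⟩ := ex4 (g.1 (bv 0))
    rw [z] at e ⊢
    simp only [x2_ap, E_ap (ok4 (hf_zero_l _) _), hf4, bv4, Matrix.cons_val, Matrix.smul_cons, Matrix.smul_empty, smul_eq_mul,
      Matrix.cons_add_cons, Matrix.empty_add_empty, v4, smul_zero, add_zero, Pi.zero_apply] at e ⊢
    grind
  · obtain ⟨c, rfl⟩ := rt_xr.mem.1 m
    have e := tv_cj1 (su_sem h) (bv 0) c
    rw [show ξ (bv 0) = bv 0 from k, mul_inv_eq_iff_eq_mul] at e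
    exact Subtype.ext e.symm

end CF.S4q
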