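import Cfsg.Agent.S4q.M2a

/-! A standard subgroup `Sp₄(q)`, `q` even: the Sylow subgroup and the torus. -/

set_option autoImplicit false
set_option linter.unusedSectionVars false

namespace CF.S4q

open Cfsg Subgroup Equiv CF.Loc CF.LX CF.Ud CF.Sq
open CF.Dbl (El)
open scoped commutatorElement

variable {K : Type} [Field K] [Fintype K] [CharP K 2] {i j : Fin 8} {a b c e a' b' c' e' : K} {l m l' m' : Kˣ}
  {g u v w r : P K} {B B' : Subgroup (P K)}

open M2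

theorem mem_K : hr l m ∈ Ks K i ↔ al i l m = 1 :=
  ⟨fun h => Units.ext (by
    have := hr_cj i l m 1
    rw [← mem_centralizer_iff'.1 h.2 _ (X_mem i 1), mul_inv_cancel_right, mul_one] at this
    exact (xr_inj this).symm), fun h => ⟨mem_H.2 ⟨_, _, rfl⟩, mem_centralizer_iff'.2 fun _ k => by
      obtain ⟨c, rfl⟩ := mem_X.1 k
      exact (mul_inv_eq_iff_eq_mul.1 ((hr_cj i l m c).trans (by rw [h, Units.val_one, one_mul]))).symm⟩⟩
theorem al_mul (i : Fin 8) (l m l' m' : Kˣ) : al i (l * l') (m * m') = al i l m * al i l' m' := by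
  fin_cases i <;> simp only [al, Fin.reduceFinMk, Matrix.cons_val, mul_inv_rev] <;> ac_rfl
theorem al_sur (n : j ≠ i) (n' : j ≠ i + 4) (a b : Kˣ) : ∃ l m, al i l m = a ∧ al j l m = b := by
  let f : Kˣ × Kˣ →* Kˣ × Kˣ := MonoidHom.mk' (fun p => (al i p.1 p.2, al j p.1 p.2)) fun _ _ => Prod.ext (al_mul ..) (al_mul ..)
  have : Function.Injective f := (injective_iff_map_eq_one f).2 fun ⟨l, m⟩ h => by
    have p := congrArg (fun x => x.1.1) h; have q := congrArg (fun x => x.2.1) h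
    have k : ∀ a : K, a * a = 1 → a = 1 := fun a h => sq_inj (by rw [h, mul_one])
    have := k l; have := k m; have := l.mul_inv; have := m.mul_inv
    suffices l.1 = 1 ∧ m.1 = 1 from Prod.ext (Units.ext this.1) (Units.ext this.2)
    simp only [f, MonoidHom.mk'_apply, Prod.fst_one, Prod.snd_one, Units.val_one] at p q
    revert p q n n'
    fin_cases i <;> fin_cases j <;> simp only [al, Fin.reduceFinMk, Matrix.cons_val, Units.val_mul] <;> grind
  obtain ⟨p, h⟩ := Finite.surjective_of_injective this (a, b)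
  exact ⟨p.1, p.2, congrArg Prod.fst h, congrArg Prod.snd h⟩
theorem H_odd : Odd (Nat.card (Hs K)) := by
  let f : Kˣ × Kˣ →* P K := MonoidHom.mk' (fun p => hr p.1 p.2) fun _ _ => hr_mul ..
  have : Hs K = f.range := Subgroup.ext fun _ => by simp [mem_H, f, eq_comm]
  have o : Odd (Nat.card Kˣ) := by
    have := FiniteField.even_card_of_char_two (F := K) (ringChar.eq K 2)
    have := Fintype.one_lt_card (α := K)
    rw [Nat.card_units, Nat.card_eq_fintype_card, Nat.odd_iff]; omega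
  exact this ▸ Odd.of_dvd_nat (Nat.card_prod Kˣ Kˣ ▸ o.mul o) (card_range_dvd f)
theorem H_ab : Hs K ≤ 𝐂(Hs K) := fun _ h => mem_centralizer_iff'.2 fun _ k => by
  obtain ⟨_, _, rfl⟩ := mem_H.1 h; obtain ⟨_, _, rfl⟩ := mem_H.1 k
  rw [← hr_mul, ← hr_mul]; congr 1 <;> exact mul_comm _ _
theorem H_nX (i : Fin 8) : Hs K ≤ 𝐍(Xs K i) := fun _ h => mem_normalizer_of_conj_mem fun _ k => by
  obtain ⟨_, _, rfl⟩ := mem_H.1 h; obtain ⟨_, rfl⟩ := mem_X.1 k
  rw [hr_cj]; exact X_mem _ _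

namespace M2
theorem hr_nf (l m : Kˣ) (a b c e : K) : hr l m * (xr 1 a * xr 2 b * xr 3 c * xr 4 e) * (hr l m)⁻¹ =
    xr 1 ((al 1 l m).1 * a) * xr 2 ((al 2 l m).1 * b) * xr 3 ((al 3 l m).1 * c) * xr 4 ((al 4 l m).1 * e) := by
  simp only [← hr_cj]; group
theorem H_nU : Hs K ≤ 𝐍(Us K) := fun _ h => mem_normalizer_of_conj_mem fun _ k => by
  obtain ⟨_, _, rfl⟩ := mem_H.1 h; obtain ⟨_, _, _, _, rfl⟩ := mem_U.1 k
  rw [hr_nf]; exact nf_U _ _ _ _
theorem trg (h0 : g.1 (bv 0) = ![l.1, 0, 0, 0]) (h1 : g.1 (bv 1) = ![a, m.1, 0, 0]) : ∃ u ∈ Us K, g = u * hr l m := by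
  have p := form g (bv 2) (bv 0); have q := form g (bv 2) (bv 1); have p' := form g (bv 3) (bv 0)
  have q' := form g (bv 3) (bv 1); have s := form g (bv 2) (bv 3)
  have := l.mul_inv; have := m.mul_inv
  simp only [h0, h1, hf4] at p q p' q' s
  simp [bv] at p q p' q' s
  refine ⟨_, nf_U (a * m⁻¹.1) (l * g.1 (bv 3) 0 + a * m⁻¹.1 * (l * g.1 (bv 3) 1)) (l * g.1 (bv 3) 1) (m * g.1 (bv 2) 1),
    ext4 fun j => ?_⟩
  rw [coe_mul, Perm.mul_apply, uap, hap]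
  fin_cases j <;> simp only [Fin.reduceFinMk, Fin.val_zero, Fin.val_one, Fin.val_two, h0, h1] <;> ext k <;> fin_cases k <;>
    simp [bv] <;> grind
theorem cjap (r g : P K) (x : Fin 4 → K) : (r * g * r⁻¹).1 (r.1 x) = r.1 (g.1 x) := by simp
theorem cmap (h : g * u = u * g) (x : Fin 4 → K) : g.1 (u.1 x) = u.1 (g.1 x) := congrArg (fun k : P K => k.1 x) h
theorem nz (g : P K) (j : Fin 4) : g.1 (bv j) ≠ 0 := fun h => by
  have := congrFun (g.1.injective (h.trans (sem g).zero.symm)) j; simp [bv] at this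
theorem NU (h : g ∈ 𝐍(Us K)) : ∃ u ∈ Us K, ∃ l m, g = u * hr l m := by
  have k : ∀ u ∈ Us K, ∃ a, u.1 (g.1 (bv 0)) = g.1 (bv 0) ∧ u.1 (g.1 (bv 1)) = g.1 (bv 1) + a • g.1 (bv 0) := fun u i => by
    obtain ⟨a, b, c, e, s⟩ := mem_U.1 (conj_mem_of_mem_normalizer' h i)
    have t : ∀ x, u.1 (g.1 x) = g.1 ((xr 1 a * xr 2 b * xr 3 c * xr 4 e).1 x) := fun x => by rw [← s]; simp
    refine ⟨a, ?_, ?_⟩ <;> rw [t, uap]
    · congr 1; ext k; fin_cases k <;> simp [bv]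
    · rw [← (sem g).smul1, ← (sem g).add]; congr 1; ext k; fin_cases k <;> simp [bv]
  obtain ⟨_, p1, -⟩ := k _ (x1_U 1); obtain ⟨_, p3, q3⟩ := k _ (x3_U 1); obtain ⟨_, p4, q4⟩ := k _ (x4_U 1)
  have a1 := congrFun p1 0; have a2 := congrFun p4 1; have a3 := congrFun p3 1
  have b3 := congrFun q3 1; have b2 := congrFun q4 1
  simp [ap] at a1 a2 a3 b3 b2
  have h0 : g.1 (bv 0) = ![g.1 (bv 0) 0, 0, 0, 0] := by ext k; fin_cases k <;> simp [*]
  have h1 : g.1 (bv 1) = ![g.1 (bv 1) 0, g.1 (bv 1) 1, 0, 0] := by ext k; fin_cases k <;> simp [*]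
  have l0 : g.1 (bv 0) 0 ≠ 0 := fun z => nz g 0 (by rw [show g.1 (bv (0 : Fin 4)) = _ from h0, z]; ext k; fin_cases k <;> rfl)
  have m0 : g.1 (bv 1) 1 ≠ 0 := fun z => by
    have s := form g (bv 2) (bv 1); have t := form g (bv 2) (bv 0)
    rw [h1, z] at s; rw [h0] at t
    simp [hf4, bv] at s t; grind
  obtain ⟨u, i, e⟩ := trg (l := Units.mk0 _ l0) (m := Units.mk0 _ m0) h0 h1
  exact ⟨u, i, _, _, e⟩

/-- alternating type -/
def I1 (g : P K) : Prop := ∀ x, hf 1 (g.1 x) x = 0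
/-- rank at most one -/
def I2 (g : P K) : Prop := ∀ x y, (hf 1 (g.1 x) y + hf 1 x y) ^ 2 = hf 1 (g.1 x) x * hf 1 (g.1 y) y
theorem I1.cj (h : IsConj g u) (k : I1 u) : I1 g := fun x => by
  obtain ⟨r, rfl⟩ := isConj_iff.1 h
  rw [← form r, ← cjap]; exact k _
theorem I2.cj (h : IsConj g u) (k : I2 u) : I2 g := fun x y => by
  obtain ⟨r, rfl⟩ := isConj_iff.1 h
  simpa only [cjap, form] using k (r.1 x) (r.1 y)
theorem I12 (i : Fin 8) (c : K) : I1 (xr i c) ∨ I2 (xr i c) := by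
  fin_cases i
  all_goals first
    | (left; intro x; simp only [ap, hf4, Fin.reduceFinMk, Matrix.cons_val]; grind)
    | (right; intro x y; simp only [ap, hf4, Fin.reduceFinMk, Matrix.cons_val]; grind)
theorem cj0 (t a b c : K) : xr 0 t * (xr 1 a * xr 2 b * xr 3 c) * (xr 0 t)⁻¹ = xr 1 (a + c * t) * xr 2 (b + c * c * t) * xr 3 c := by
  rw [mul_inv_eq_iff_eq_mul]
  refine Subtype.ext (Equiv.ext fun x => ?_)
  simp only [coe_mul, Perm.mul_apply, ap, Matrix.cons_val]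
  ext k; fin_cases k <;> simp only [Fin.reduceFinMk, Matrix.cons_val] <;> grind
theorem cj5 (t b c e : K) : xr 5 t * (xr 2 b * xr 3 c * xr 4 e) * (xr 5 t)⁻¹ = xr 2 b * xr 3 (c + t * b) * xr 4 (e + t * t * b) := by
  rw [mul_inv_eq_iff_eq_mul]
  refine Subtype.ext (Equiv.ext fun x => ?_)
  simp only [coe_mul, Perm.mul_apply, ap, Matrix.cons_val]
  ext k; fin_cases k <;> simp only [Fin.reduceFinMk, Matrix.cons_val] <;> grind
theorem c23 (b c : K) : xr 3 c * xr 2 b = xr 2 b * xr 3 c := (rt_xr.c1 2 b c).symm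
theorem a1Z (a b c : K) : ∃ r c', (c' = 0 → a = 0 ∧ c = 0) ∧ r * (xr 1 a * xr 2 b * xr 3 c) * r⁻¹ = xr 2 (b + a * c) * xr 3 c' := by
  by_cases h : c = 0
  · refine ⟨nr K 4, a, fun z => ⟨z, h⟩, ?_⟩
    rw [h, rt_xr.zero, mul_one, conj_mul_conj, n4_cj, n4_cj, mul_zero, add_zero]; exact c23 _ _
  · refine ⟨xr 0 (a / c), c, fun z => (h z).elim, ?_⟩
    rw [cj0, show a + c * (a / c) = 0 by field_simp; grind, rt_xr.zero, one_mul]; congr 3; field_simp
theorem two_odd {Q : Subgroup (P K)} (h : IsPGroup 2 Q) (i : g ∈ Q) (j : g ∈ Hs K) : g = 1 := by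
  obtain ⟨k, e⟩ := h ⟨g, i⟩
  exact orderOf_eq_one_iff.1 (Nat.eq_one_of_dvd_coprimes ((Nat.coprime_two_left.2 H_odd).pow_left k)
    (orderOf_dvd_of_pow_eq_one (congrArg Subtype.val e)) (orderOf_dvd_natCard _ j))
end M2

theorem N_U : 𝐍(Us K) = Us K ⊔ Hs K := le_antisymm (fun _ h => let ⟨_, i, _, _, e⟩ := NU h; e ▸ mul_mem_sup i (mem_H.2 ⟨_, _, rfl⟩))
  (sup_le le_normalizer H_nU)
theorem U_syl : IsSyl 2 (Us K) ⊤ := isSyl_of_normalizer ⟨le_inf le_top le_normalizer, rt_xr.two, fun Q p a b =>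
  le_antisymm (fun g i => by
    obtain ⟨u, j, l, m, rfl⟩ := NU (b i).2
    rwa [two_odd p ((mul_mem_cancel_left (a j)).1 i) (mem_H.2 ⟨_, _, rfl⟩), mul_one]) a⟩
theorem inv_Z (h : g * g = 1) : ∃ r, r * g * r⁻¹ ∈ Zs K := by
  suffices ∀ g ∈ Us K, g * g = 1 → ∃ r, r * g * r⁻¹ ∈ Zs K by
    obtain ⟨r, -, i⟩ := U_syl.exists_cj_le (Q := zpowers g) (IsPGroup.of_card_dvd_pow (n := 1) (by
      rw [Nat.card_zpowers]; exact orderOf_dvd_of_pow_eq_one (by rw [pow_one, pow_two, h]))) le_top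
    obtain ⟨r', k⟩ := this _ (cj_le_iff_forall.1 i g (mem_zpowers g)) (by rw [← conj_mul_conj, h]; simp)
    exact ⟨r' * r, by simpa [mul_assoc] using k⟩
  intro g i h
  rcases U_inv i h with k | k
  · obtain ⟨a, b, c, rfl⟩ := mem_A1.1 k
    exact (a1Z a b c).imp fun _ ⟨_, _, e⟩ => e ▸ z_mem _ _
  · obtain ⟨b, c, e, rfl⟩ := mem_A2.1 k
    by_cases z : b = 0
    · refine ⟨nr K 1, ?_⟩
      rw [z, rt_xr.zero, one_mul, conj_mul_conj, n1_cj, n1_cj]; exact c23 (K := K) _ _ ▸ z_mem _ _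
    · refine ⟨xr 5 (rt (e / b)), ?_⟩
      rw [cj5, rt_sq, show e + e / b * b = 0 by field_simp; grind, rt_xr.zero, mul_one]; exact z_mem _ _
theorem ct_cj (h : Ct u) (h' : Ct v) : ∃ l m, hr l m * u * (hr l m)⁻¹ = v := by
  obtain ⟨a, c, a0, c0, rfl⟩ := h; obtain ⟨a', c', a0', c0', rfl⟩ := h'
  obtain ⟨l, m, p, q⟩ := al_sur (i := 2) (j := 3) (by decide) (by decide) (Units.mk0 (a' / a) (by positivity))
    (Units.mk0 (c' / c) (by positivity))
  exact ⟨l, m, by rw [conj_mul_conj, hr_cj, hr_cj, p, q]; simp [a0, c0]⟩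
theorem cCt (h : Ct g) : 𝐂₁(g) = Us K := by
  obtain ⟨a, c, a0, c0, rfl⟩ := h
  refine le_antisymm (fun g i => ?_) fun g i => mem_centralizer_singleton_iff.2 (mem_centralizer_iff'.1 (rt_xr.cen (z_mem a c)) g i)
  have k := cmap (mem_centralizer_singleton_iff.1 i)
  simp only [z_nf a c, uap] at k
  have k3 : ∀ x, g.1 x 3 = x 3 := fun x => by
    have := form g (![x 0 + 0 * x 1 + (c + 0 * 0) * x 2 + (a + 0 * c) * x 3, x 1 + 0 * x 2 + c * x 3, x 2 + 0 * x 3, x 3]) x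
    rw [k] at this
    simp only [hf4, Matrix.cons_val] at this
    exact sq_inj (mul_left_cancel₀ a0 (by grind))
  have h0 : g.1 (bv 0) = bv 0 := hf_ext (σ := 1) fun w => by
    obtain ⟨w, rfl⟩ := g.1.surjective w
    rw [form, hf4, hf4, k3]; simp [bv]
  have k1 := congrFun (k (bv 1)) 0
  have k2 := congrFun (k (bv 2)) 0
  rw [show (![_, _, _, _] : Fin 4 → K) = bv 1 by ext k; fin_cases k <;> simp [bv]] at k1
  rw [show (![_, _, _, _] : Fin 4 → K) = bv 2 + c • bv 0 by ext k; fin_cases k <;> simp [bv], (sem g).add, (sem g).smul1, h0] at k2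
  have s := form g (bv 1) (bv 2)
  simp [k3, hf4, bv, c0] at k1 k2 s
  obtain ⟨u, j, e⟩ := trg (g := g) (l := 1) (m := 1) (a := g.1 (bv 1) 0) (by rw [h0]; ext k; fin_cases k <;> simp [bv])
    (by ext k; fin_cases k <;> simp [k3, bv] <;> grind)
  rwa [e, hr_one, mul_one]
theorem n23 (a0 : a ≠ 0) : ¬ IsConj (xr 2 a) (xr 3 c) := fun h => by
  have := I1.cj h (fun x => by simp only [ap, hf4, Matrix.cons_val]; grind) (bv 3)
  simp [ap, hf4, bv, a0] at this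
theorem nct (h : Ct g) (i : Fin 8) (c : K) : ¬ IsConj g (xr i c) := fun k => by
  obtain ⟨a, b, a0, b0, rfl⟩ := h
  rcases I12 i c with p | p
  · have := p.cj k (bv 3)
    rw [z_nf a b, uap] at this; simp [hf4, bv, a0] at this
  · have := p.cj k (bv 2) (bv 3)
    simp only [z_nf a b, uap] at this; simp [hf4, bv, b0] at this

section
variable (d : Dq.Sm K 4)
include d
theorem ex3 : ∃ l : Kˣ, l ≠ 1 := by
  have := d.ex rfl
  have : Nontrivial Kˣ := Finite.one_lt_card_iff_nontrivial.1 (by rw [Nat.card_units]; omega)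
  exact exists_ne 1
theorem A_der : ⁅A1 K, A2 K⁆ = Zs K := by
  refine le_antisymm ((commutator_mono A1_le A2_le).trans rt_xr.der) ?_
  have k : ∀ b c : K, b ≠ 0 → c ≠ 0 → xr 2 b * xr 3 c ∈ ⁅A1 K, A2 K⁆ := fun b c b0 c0 =>
    let ⟨_, _, e⟩ := ct_cm ⟨b, c, b0, c0, rfl⟩; e ▸ commutator_mem_commutator (x1_A _) (x4_A _)
  have s : ∀ b : K, ∃ x y, x ≠ 0 ∧ y ≠ 0 ∧ b = x + y := fun b => by
    obtain ⟨l, n⟩ := ex3 d
    have n : l.1 ≠ 1 := fun e => n (Units.ext e)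
    have := l.ne_zero
    by_cases z : b = 1
    exacts [⟨l, l + 1, this, by grind, by grind⟩, ⟨1, b + 1, one_ne_zero, by grind, by grind⟩]
  intro g i
  obtain ⟨b, c, rfl⟩ := mem_Z.1 i
  obtain ⟨_, _, p, q, rfl⟩ := s b; obtain ⟨_, _, p', q', rfl⟩ := s c
  rw [← z_mul]; exact mul_mem (k _ _ p p') (k _ _ q q')
theorem U_der : ⁅Us K, Us K⁆ = Zs K := le_antisymm rt_xr.der (A_der d ▸ commutator_mono A1_le A2_le)
theorem M2.ex_al (i : Fin 8) : ∃ l m : Kˣ, (al i l m).1 ≠ 1 :=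
  let ⟨l, n⟩ := ex3 d
  let ⟨l', m', p, _⟩ := al_sur (i := i) (j := i + 1) (by revert i; decide) (by revert i; decide) l l
  ⟨l', m', fun e => n (Units.ext (p ▸ e))⟩
theorem cUH (i : g ∈ Us K) (h : g ∈ 𝐂(Hs K)) : g = 1 := by
  obtain ⟨a, b, c, e, rfl⟩ := mem_U.1 i
  have k := fun l m => U_inj ((hr_nf l m a b c e).symm.trans (mul_inv_eq_iff_eq_mul.2
    (mem_centralizer_iff'.1 h _ (mem_H.2 ⟨l, m, rfl⟩))))
  obtain ⟨l₁, m₁, p₁⟩ := ex_al d 1; obtain ⟨l₂, m₂, p₂⟩ := ex_al d 2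
  obtain ⟨l₃, m₃, p₃⟩ := ex_al d 3; obtain ⟨l₄, m₄, p₄⟩ := ex_al d 4
  have := (k l₁ m₁).1; have := (k l₂ m₂).2.1; have := (k l₃ m₃).2.2.1; have := (k l₄ m₄).2.2.2
  rw [show a = 0 by grind, show b = 0 by grind, show c = 0 by grind, show e = 0 by grind, ← one_nf]
theorem XH (i : Fin 8) : ⁅Xs K i, Hs K⁆ = Xs K i := by
  refine le_antisymm (commutator_le.2 fun x p h q => ?_) (Xle fun c => ?_)
  · simpa [commutatorElement_def, mul_assoc] using mul_mem p (conj_mem_of_mem_normalizer (H_nX i q) (inv_mem p))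
  obtain ⟨l, m, p⟩ := ex_al d i
  have n : 1 + (al i l m).1 ≠ 0 := by grind
  have := commutator_mem_commutator (X_mem i (c / (1 + (al i l m).1))) (mem_H.2 ⟨l, m, rfl⟩)
  rwa [commutatorElement_def, rt_xr.inv, mul_assoc, mul_assoc, ← mul_assoc (hr l m), hr_cj, ← rt_xr.add,
    show c / (1 + (al i l m).1) + (al i l m).1 * (c / (1 + (al i l m).1)) = c by field_simp] at this
theorem cn4 (l : B ≤ A1 K) (l' : B' ≤ A1 K) (n : B ⊓ B' = ⊥) (h : ∀ g ∈ A1 K, (∃ r, Ct (r * g * r⁻¹)) → g ∈ B ∨ g ∈ B') :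
    B = A1 K ∨ B' = A1 K := by
  by_contra z
  rw [not_or] at z
  have q := d.ex rfl
  have hf : ∀ {B : Subgroup (P K)}, B ≤ A1 K → B ≠ A1 K → 2 * Nat.card B ≤ Nat.card K ^ 3 := fun {B} l z => by
    obtain ⟨k, e⟩ := card_dvd_of_le l
    rw [← card_A1, e, mul_comm]
    refine Nat.mul_le_mul_left _ ?_
    have : k ≠ 1 := fun o => z (eq_of_le_of_card_ge l (by rw [e, o, mul_one]))
    have : k ≠ 0 := fun o => Nat.card_pos.ne' (by rw [e, o, mul_zero] : Nat.card (A1 K) = 0)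
    omega
  have h1 := hf l z.1; have h2 := hf l' z.2
  have h3 : Nat.card B * Nat.card B' ≤ Nat.card K ^ 3 := by
    rw [← card_A1, ← Nat.card_prod]
    refine Nat.card_le_card_of_injective (fun p : B × B' => (⟨p.1 * p.2, mul_mem (l p.1.2) (l' p.2.2)⟩ : A1 K)) fun p p' e => ?_
    have e : p'.1.1⁻¹ * p.1 = p'.2 * p.2.1⁻¹ := by
      have : p.1.1 * p.2 = p'.1 * p'.2 := congrArg Subtype.val e
      rw [inv_mul_eq_iff_eq_mul, ← mul_assoc, ← this, mul_inv_cancel_right]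
    have o : p'.1.1⁻¹ * p.1 = 1 := mem_bot.1 (n ▸ mem_inf.2 ⟨B.mul_mem (B.inv_mem p'.1.2) p.1.2, e ▸ B'.mul_mem p'.2.2 (B'.inv_mem p.2.2)⟩)
    exact Prod.ext (Subtype.ext (inv_mul_eq_one.1 o).symm) (Subtype.ext (mul_inv_eq_one.1 (e ▸ o)).symm)
  have h4 : (Nat.card K * Nat.card K - 1) * (Nat.card K - 1) ≤ Nat.card B + Nat.card B' := by
    let f : {p : K × K // p ≠ 0} × Kˣ → P K := fun p => xr 1 p.1.1.1 * xr 2 (p.2 + p.1.1.1 * p.1.1.2) * xr 3 p.1.1.2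
    have fi : Function.Injective f := fun p p' e => by
      have := U_inj ((a1_nf ..).symm.trans (e.trans (a1_nf ..)))
      exact Prod.ext (Subtype.ext (Prod.ext this.1 this.2.2.1)) (Units.ext (by grind))
    have : Set.range f ⊆ B ∪ B' := by
      rintro _ ⟨⟨⟨⟨a, c⟩, n⟩, b⟩, rfl⟩
      refine h _ (mem_A1.2 ⟨_, _, _, rfl⟩) ((a1Z _ _ _).imp fun r ⟨_, o, e⟩ => ⟨_, _, ?_, fun z => n (Prod.ext (o z).1 (o z).2), e⟩)
      have := b.ne_zero; grind
    have := (Set.ncard_le_ncard this).trans (Set.ncard_union_le _ _)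
    have c0 : Nat.card {p : K × K // p ≠ 0} = Nat.card K * Nat.card K - 1 := by
      classical simp [Fintype.card_subtype_compl]
    rwa [← Nat.card_coe_set_eq, Nat.card_range_of_injective fi, Nat.card_prod, Nat.card_units, c0] at this
  have : 0 < Nat.card B := Nat.card_pos
  have : 0 < Nat.card B' := Nat.card_pos
  generalize Nat.card B = x at *; generalize Nat.card B' = y at *
  obtain ⟨k, e⟩ := Nat.exists_eq_add_of_lt q
  rw [e] at h1 h2 h3 h4
  have h5 : 2 * (x + y) ≤ (2 + k + 1) ^ 3 + 4 := by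
    rcases Nat.lt_or_ge x 2 with s | s
    · omega
    rcases Nat.lt_or_ge y 2 with t | t
    · omega
    obtain ⟨x, rfl⟩ := Nat.exists_eq_add_of_le s; obtain ⟨y, rfl⟩ := Nat.exists_eq_add_of_le t
    nlinarith [Nat.zero_le (x * y)]
  rw [show (2 + k + 1) * (2 + k + 1) - 1 = (k + 2) * (k + 4) from Nat.sub_eq_of_eq_add (by ring), Nat.add_sub_cancel] at h4
  nlinarith [Nat.zero_le (k * k), Nat.zero_le (k * k * k)]
end

end CF.S4q
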