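import Cfsg.Agent.S4q.M1

/-! A standard subgroup `Sp₄(q)`, `q` even: the Sylow subgroup. -/

set_option autoImplicit false
set_option linter.unusedSectionVars false

namespace CF.S4q

open Cfsg Subgroup Equiv CF.Loc CF.LX CF.Ud CF.Sq
open CF.Dbl (El)
open scoped commutatorElement

variable {K : Type} [Field K] [Fintype K] [CharP K 2] {i j : Fin 8} {a b c e a' b' c' e' : K} {l m l' m' : Kˣ}
  {g u v w r : P K} {B B' : Subgroup (P K)}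

namespace M2

theorem iv1 : Iv (1 : K ≃+* K) := fun _ => rfl
theorem iso (x : Fin 4 → K) : hf (1 : K ≃+* K) x x = 0 := by rw [hf4]; grind
theorem tv_ap (v x : Fin 4 → K) (c : K) : E (1 : K ≃+* K) v 0 c x = x + (c * hf 1 x v) • v := by
  simp [E_ap (ok_tv iv1 (iso v) rfl)]
theorem sh_ap {v n : Fin 4 → K} (h : hf (1 : K ≃+* K) n v = 0) (x : Fin 4 → K) :
    E (1 : K ≃+* K) v n 0 x = x + hf 1 x v • n + hf 1 x n • v := by
  simp [E_ap (ok_iso iv1 (iso v) (iso n) h)]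

theorem ap (i : Fin 8) (c : K) (x : Fin 4 → K) : (xr i c).1 x =
    ![![x 0, x 1, x 2 + c * x 1, x 3], ![x 0 + c * x 1, x 1, x 2 + c * x 3, x 3], ![x 0 + c * x 3, x 1, x 2, x 3],
      ![x 0 + c * x 2, x 1 + c * x 3, x 2, x 3], ![x 0, x 1 + c * x 2, x 2, x 3], ![x 0, x 1 + c * x 0, x 2, x 3 + c * x 2],
      ![x 0, x 1, x 2, x 3 + c * x 0], ![x 0, x 1, x 2 + c * x 0, x 3 + c * x 1]] i := by
  fin_cases i <;> simp only [xr, Fin.reduceFinMk, Matrix.cons_val] <;>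
    first
    | rw [tv_ap]
    | rw [sh_ap (by simp [hf4, bv])]
  all_goals
    ext k; fin_cases k <;> simp [hf4, bv] <;> ring

theorem uap (a b c e : K) (x : Fin 4 → K) : (xr 1 a * xr 2 b * xr 3 c * xr 4 e).1 x =
    ![x 0 + a * x 1 + (c + a * e) * x 2 + (b + a * c) * x 3, x 1 + e * x 2 + c * x 3, x 2 + a * x 3, x 3] := by
  simp only [coe_mul, Perm.mul_apply, ap]
  ext k; fin_cases k <;> simp <;> ring

theorem hap (l m : Kˣ) (x : Fin 4 → K) : (hr l m).1 x = ![l * x 0, m * x 1, m⁻¹.1 * x 2, l⁻¹.1 * x 3] := by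
  have : (6 : Fin 8) = 2 + 4 := rfl
  simp only [hr, nw, coe_mul, Perm.mul_apply, ap, Fin.reduceAdd, Matrix.cons_val]
  have := l.mul_inv; have := m.mul_inv
  ext k; fin_cases k <;> simp only [Fin.reduceFinMk, Matrix.cons_val] <;> grind

theorem sem (g : P K) : Sem 1 1 g.1 := su_sem g.2
theorem form (g : P K) (x y : Fin 4 → K) : hf 1 (g.1 x) (g.1 y) = hf (1 : K ≃+* K) x y := (sem g).form1 x y
theorem lin4 (g : P K) (x : Fin 4 → K) : g.1 x = x 0 • g.1 (bv 0) + x 1 • g.1 (bv 1) + x 2 • g.1 (bv 2) + x 3 • g.1 (bv 3) := by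
  simp only [← (sem g).smul1, ← (sem g).add]
  congr 1; ext k; fin_cases k <;> simp [bv]
theorem ext4 (h : ∀ j : Fin 4, g.1 (bv j) = u.1 (bv j)) : g = u := Subtype.ext (Equiv.ext fun x => by
  rw [lin4 g, lin4 u]; exact congrArg₂ _ (congrArg₂ _ (congrArg₂ _ (congrArg _ (h 0)) (congrArg _ (h 1))) (congrArg _ (h 2)))
    (congrArg _ (h 3)))

/-- normal forms with vanishing conditions -/
noncomputable def Sb (K : Type) [Field K] [Fintype K] [CharP K 2] (p q : Prop) : Subgroup (P K) where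
  carrier := {g | ∃ a b c e, (p → a = 0) ∧ (q → e = 0) ∧ g = xr 1 a * xr 2 b * xr 3 c * xr 4 e}
  one_mem' := ⟨0, 0, 0, 0, fun _ => rfl, fun _ => rfl, by simp [rt_xr.zero]⟩
  mul_mem' := by
    rintro _ _ ⟨a, b, c, e, h, k, rfl⟩ ⟨a', b', c', e', h', k', rfl⟩
    exact ⟨_, _, _, _, fun z => by rw [h z, h' z, add_zero], fun z => by rw [k z, k' z, add_zero], rt_xr.mul ..⟩
  inv_mem' := by
    rintro _ ⟨a, b, c, e, h, k, rfl⟩
    refine ⟨a, b + a * a * e, c + a * e, e, h, k, inv_eq_of_mul_eq_one_right ?_⟩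
    rw [rt_xr.mul, show a + a = 0 by grind, show b + (b + a * a * e) + a * a * e = 0 by grind,
      show c + (c + a * e) + a * e = 0 by grind, show e + e = 0 by grind]
    simp [rt_xr.zero]

theorem X_mem (i : Fin 8) (c : K) : xr i c ∈ Xs K i := subset_closure ⟨c, rfl⟩
theorem Xle (h : ∀ c, xr i c ∈ B) : Xs K i ≤ B := (closure_le _).2 fun _ ⟨c, e⟩ => e ▸ h c
theorem sb1 {q : Prop} : Xs K 1 ≤ Sb K False q := Xle fun c => ⟨c, 0, 0, 0, False.elim, fun _ => rfl, by simp [rt_xr.zero]⟩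
theorem sb2 {p q : Prop} : Xs K 2 ≤ Sb K p q := Xle fun c => ⟨0, c, 0, 0, fun _ => rfl, fun _ => rfl, by simp [rt_xr.zero]⟩
theorem sb3 {p q : Prop} : Xs K 3 ≤ Sb K p q := Xle fun c => ⟨0, 0, c, 0, fun _ => rfl, fun _ => rfl, by simp [rt_xr.zero]⟩
theorem sb4 {p : Prop} : Xs K 4 ≤ Sb K p False := Xle fun c => ⟨0, 0, 0, c, fun _ => rfl, False.elim, by simp [rt_xr.zero]⟩

theorem card_of {ι : Type} (f : ι → P K) (n : Function.Injective f) (h : ∀ g, g ∈ B ↔ ∃ x, g = f x) : Nat.card B = Nat.card ι :=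
  (Nat.card_congr (Equiv.ofBijective (fun x => (⟨f x, (h _).2 ⟨x, rfl⟩⟩ : B))
    ⟨fun _ _ e => n (congrArg Subtype.val e), fun g => ((h _).1 g.2).imp fun _ e => Subtype.ext e.symm⟩)).symm

theorem z_nf (b c : K) : xr 2 b * xr 3 c = xr 1 0 * xr 2 b * xr 3 c * xr 4 0 := by simp [rt_xr.zero]
theorem a1_nf (a b c : K) : xr 1 a * xr 2 b * xr 3 c = xr 1 a * xr 2 b * xr 3 c * xr 4 0 := by simp [rt_xr.zero]
theorem a2_nf (b c e : K) : xr 2 b * xr 3 c * xr 4 e = xr 1 0 * xr 2 b * xr 3 c * xr 4 e := by simp [rt_xr.zero]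
theorem one_nf : (1 : P K) = xr 1 0 * xr 2 0 * xr 3 0 * xr 4 0 := by simp [rt_xr.zero]

end M2
open M2

theorem mem_X : g ∈ Xs K i ↔ ∃ c, g = xr i c := rt_xr.mem
theorem mem_U : g ∈ Us K ↔ ∃ a b c e, g = xr 1 a * xr 2 b * xr 3 c * xr 4 e := rt_xr.nf
theorem U_inj (h : xr 1 a * xr 2 b * xr 3 c * xr 4 e = xr 1 a' * xr 2 b' * xr 3 c' * xr 4 e') : a = a' ∧ b = b' ∧ c = c' ∧ e = e' := by
  have k := fun x j => congrArg (fun g : P K => g.1 x j) h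
  have h0 := k (bv 3) 0; have h1 := k (bv 3) 1; have h2 := k (bv 3) 2; have h3 := k (bv 2) 1
  simp only [uap] at h0 h1 h2 h3
  simp [bv] at h0 h1 h2 h3
  grind
theorem mem_Z : g ∈ Zs K ↔ ∃ b c, g = xr 2 b * xr 3 c :=
  ⟨fun h => by
    obtain ⟨a, b, c, e, p, q, rfl⟩ := (sup_le sb2 sb3 : Zs K ≤ Sb K True True) h
    exact ⟨b, c, by rw [p trivial, q trivial, ← z_nf]⟩, fun ⟨_, _, e⟩ => e ▸ mul_mem_sup (X_mem _ _) (X_mem _ _)⟩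
theorem mem_A1 : g ∈ A1 K ↔ ∃ a b c, g = xr 1 a * xr 2 b * xr 3 c :=
  ⟨fun h => by
    obtain ⟨a, b, c, e, -, q, rfl⟩ := (sup_le (sup_le sb1 sb2) sb3 : A1 K ≤ Sb K False True) h
    exact ⟨a, b, c, by rw [q trivial, ← a1_nf]⟩, fun ⟨_, _, _, e⟩ => e ▸ mul_mem_sup (mul_mem_sup (X_mem _ _) (X_mem _ _)) (X_mem _ _)⟩
theorem mem_A2 : g ∈ A2 K ↔ ∃ b c e, g = xr 2 b * xr 3 c * xr 4 e :=
  ⟨fun h => by
    obtain ⟨a, b, c, e, p, -, rfl⟩ := (sup_le (sup_le sb2 sb3) sb4 : A2 K ≤ Sb K True False) h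
    exact ⟨b, c, e, by rw [p trivial, ← a2_nf]⟩, fun ⟨_, _, _, e⟩ => e ▸ mul_mem_sup (mul_mem_sup (X_mem _ _) (X_mem _ _)) (X_mem _ _)⟩

namespace M2
theorem nf_U (a b c e : K) : xr 1 a * xr 2 b * xr 3 c * xr 4 e ∈ Us K := mem_U.2 ⟨_, _, _, _, rfl⟩
theorem nf_A1 : xr 1 a * xr 2 b * xr 3 c * xr 4 e ∈ A1 K ↔ e = 0 :=
  ⟨fun h => by obtain ⟨_, _, _, h⟩ := mem_A1.1 h; exact (U_inj (h.trans (a1_nf _ _ _))).2.2.2,
    fun h => by rw [h, ← a1_nf]; exact mem_A1.2 ⟨_, _, _, rfl⟩⟩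
theorem nf_A2 : xr 1 a * xr 2 b * xr 3 c * xr 4 e ∈ A2 K ↔ a = 0 :=
  ⟨fun h => by obtain ⟨_, _, _, h⟩ := mem_A2.1 h; rw [a2_nf] at h; exact (U_inj h).1,
    fun h => by rw [h, ← a2_nf]; exact mem_A2.2 ⟨_, _, _, rfl⟩⟩
theorem nf_Z : xr 1 a * xr 2 b * xr 3 c * xr 4 e ∈ Zs K ↔ a = 0 ∧ e = 0 :=
  ⟨fun h => by obtain ⟨_, _, h⟩ := mem_Z.1 h; rw [z_nf] at h; exact ⟨(U_inj h).1, (U_inj h).2.2.2⟩,
    fun h => by rw [h.1, h.2, ← z_nf]; exact mem_Z.2 ⟨_, _, rfl⟩⟩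
theorem z_inj (h : xr 2 b * xr 3 c = xr 2 b' * xr 3 c') : b = b' ∧ c = c' := by
  rw [z_nf, z_nf b'] at h; exact ⟨(U_inj h).2.1, (U_inj h).2.2.1⟩
theorem z_one : xr 2 b * xr 3 c = 1 ↔ b = 0 ∧ c = 0 :=
  ⟨fun h => z_inj (by simpa [rt_xr.zero] using h), fun h => by simp [h.1, h.2, rt_xr.zero]⟩
theorem z_mul (b c b' c' : K) : xr 2 b * xr 3 c * (xr 2 b' * xr 3 c') = xr 2 (b + b') * xr 3 (c + c') := by
  rw [z_nf, z_nf b', rt_xr.mul, z_nf (b + b')]; simp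
theorem z_mem (b c : K) : xr 2 b * xr 3 c ∈ Zs K := mem_Z.2 ⟨_, _, rfl⟩
theorem A1_le : A1 K ≤ Us K := fun _ h => let ⟨_, _, _, e⟩ := mem_A1.1 h; e ▸ a1_nf (K := K) _ _ _ ▸ nf_U _ _ _ _
theorem A2_le : A2 K ≤ Us K := fun _ h => let ⟨_, _, _, e⟩ := mem_A2.1 h; e ▸ a2_nf (K := K) _ _ _ ▸ nf_U _ _ _ _
theorem Z_le1 : Zs K ≤ A1 K := fun _ h => let ⟨_, _, e⟩ := mem_Z.1 h; e ▸ z_nf (K := K) _ _ ▸ nf_A1.2 rfl
theorem Z_le2 : Zs K ≤ A2 K := fun _ h => let ⟨_, _, e⟩ := mem_Z.1 h; e ▸ z_nf (K := K) _ _ ▸ nf_A2.2 rfl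
theorem Z_le : Zs K ≤ Us K := Z_le1.trans A1_le
theorem x1_U (a : K) : xr 1 a ∈ Us K := by simpa [rt_xr.zero] using nf_U a 0 0 0
theorem x2_U (a : K) : xr 2 a ∈ Us K := by simpa [rt_xr.zero] using nf_U 0 a 0 0
theorem x3_U (a : K) : xr 3 a ∈ Us K := by simpa [rt_xr.zero] using nf_U 0 0 a 0
theorem x4_U (a : K) : xr 4 a ∈ Us K := by simpa [rt_xr.zero] using nf_U 0 0 0 a
theorem x1_A (a : K) : xr 1 a ∈ A1 K := mem_A1.2 ⟨a, 0, 0, by simp [rt_xr.zero]⟩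
theorem x4_A (a : K) : xr 4 a ∈ A2 K := mem_A2.2 ⟨0, 0, a, by simp [rt_xr.zero]⟩
theorem cm14 (a e : K) : ⁅xr 1 a, xr 4 e⁆ = xr 2 (a * a * e) * xr 3 (a * e) := by
  simpa [rt_xr.zero] using rt_xr.cm a 0 0 e 0 0 0 0
theorem nf_cm : xr 1 a * xr 2 b * xr 3 c * xr 4 e * (xr 1 a' * xr 2 b' * xr 3 c' * xr 4 e') =
    xr 1 a' * xr 2 b' * xr 3 c' * xr 4 e' * (xr 1 a * xr 2 b * xr 3 c * xr 4 e) ↔ a * a * e' = a' * a' * e ∧ a * e' = a' * e := by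
  rw [← commute_iff_eq, ← commutatorElement_eq_one_iff_commute, rt_xr.cm, z_one]; grind
theorem nf_sq : xr 1 a * xr 2 b * xr 3 c * xr 4 e * (xr 1 a * xr 2 b * xr 3 c * xr 4 e) = 1 ↔ a = 0 ∨ e = 0 := by
  rw [rt_xr.mul, show a + a = 0 by grind, show e + e = 0 by grind, ← z_nf, z_one]; grind
end M2

theorem card_X (i : Fin 8) : Nat.card (Xs K i) = Nat.card K := card_of (xr i) (fun _ _ => xr_inj) fun _ => mem_X
theorem card_Z : Nat.card (Zs K) = Nat.card K ^ 2 :=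
  (card_of (fun p : K × K => xr 2 p.1 * xr 3 p.2) (fun _ _ h => Prod.ext (z_inj h).1 (z_inj h).2) fun _ => by
    simp [mem_Z]).trans (by simp [pow_succ])
theorem card_A1 : Nat.card (A1 K) = Nat.card K ^ 3 :=
  (card_of (fun p : K × K × K => xr 1 p.1 * xr 2 p.2.1 * xr 3 p.2.2) (fun _ _ h => by
    have := U_inj ((a1_nf ..).symm.trans (h.trans (a1_nf ..))); exact Prod.ext this.1 (Prod.ext this.2.1 this.2.2.1)) fun _ => by
    simp [mem_A1]).trans (by simp [pow_succ, mul_assoc])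
theorem card_A2 : Nat.card (A2 K) = Nat.card K ^ 3 :=
  (card_of (fun p : K × K × K => xr 2 p.1 * xr 3 p.2.1 * xr 4 p.2.2) (fun _ _ h => by
    have := U_inj ((a2_nf ..).symm.trans (h.trans (a2_nf ..))); exact Prod.ext this.2.1 (Prod.ext this.2.2.1 this.2.2.2)) fun _ => by
    simp [mem_A2]).trans (by simp [pow_succ, mul_assoc])
theorem card_U : Nat.card (Us K) = Nat.card K ^ 4 :=
  (card_of (fun p : K × K × K × K => xr 1 p.1 * xr 2 p.2.1 * xr 3 p.2.2.1 * xr 4 p.2.2.2) (fun _ _ h => by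
    have := U_inj h; exact Prod.ext this.1 (Prod.ext this.2.1 (Prod.ext this.2.2.1 this.2.2.2))) fun _ => by
    simp [mem_U]).trans (by simp [pow_succ, mul_assoc])
theorem el_A1 : El (A1 K) := fun _ h => by obtain ⟨a, b, c, rfl⟩ := mem_A1.1 h; rw [a1_nf]; exact nf_sq.2 (.inr rfl)
theorem el_A2 : El (A2 K) := fun _ h => by obtain ⟨a, b, c, rfl⟩ := mem_A2.1 h; rw [a2_nf]; exact nf_sq.2 (.inl rfl)
theorem A_inf : A1 K ⊓ A2 K = Zs K := le_antisymm (fun _ h => by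
  obtain ⟨a, b, c, e, rfl⟩ := mem_U.1 (A1_le h.1); exact nf_Z.2 ⟨nf_A2.1 h.2, nf_A1.1 h.1⟩) (le_inf Z_le1 Z_le2)
theorem A_sup : A1 K ⊔ A2 K = Us K := le_antisymm (sup_le A1_le A2_le) fun _ h => by
  obtain ⟨a, b, c, e, rfl⟩ := mem_U.1 h; exact mul_mem_sup (mem_A1.2 ⟨_, _, _, rfl⟩) (x4_A e)
theorem U_cen : Us K ⊓ 𝐂(Us K) = Zs K := le_antisymm (fun _ h => by
  obtain ⟨a, b, c, e, rfl⟩ := mem_U.1 h.1
  have p := nf_cm.1 (mem_centralizer_iff'.1 h.2 _ (nf_U 1 0 0 0))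
  have q := nf_cm.1 (mem_centralizer_iff'.1 h.2 _ (nf_U 0 0 0 1))
  exact nf_Z.2 ⟨by grind, by grind⟩) (le_inf Z_le rt_xr.cen)
theorem U_inv (i : g ∈ Us K) (h : g * g = 1) : g ∈ A1 K ∨ g ∈ A2 K := by
  obtain ⟨a, b, c, e, rfl⟩ := mem_U.1 i
  rw [nf_A1, nf_A2]; exact (nf_sq.1 h).symm
theorem elU (l : B ≤ Us K) (h : El B) : B ≤ A1 K ∨ B ≤ A2 K := by
  by_contra n
  simp only [not_or, SetLike.not_le_iff_exists] at n
  obtain ⟨⟨u, p, p'⟩, v, q, q'⟩ := n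
  obtain ⟨a, b, c, e, rfl⟩ := mem_U.1 (l p)
  obtain ⟨a', b', c', e', rfl⟩ := mem_U.1 (l q)
  have h1 := nf_sq.1 (h _ p); have h2 := nf_sq.1 (h _ q); have h3 := h _ (mul_mem p q)
  rw [rt_xr.mul, nf_sq] at h3
  rw [nf_A1] at p'; rw [nf_A2] at q'
  grind
theorem cab (i : u ∈ Us K) (n : u ∉ Zs K) (a : v ∈ Us K ⊓ 𝐂₁(u)) (b : w ∈ Us K ⊓ 𝐂₁(u)) : v * w = w * v := by
  obtain ⟨a₀, _, _, e₀, rfl⟩ := mem_U.1 i
  obtain ⟨a₁, _, _, e₁, rfl⟩ := mem_U.1 a.1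
  obtain ⟨a₂, _, _, e₂, rfl⟩ := mem_U.1 b.1
  have p := nf_cm.1 (mem_centralizer_singleton_iff.1 a.2); have q := nf_cm.1 (mem_centralizer_singleton_iff.1 b.2)
  rw [nf_Z] at n; rw [nf_cm]
  have k : ∀ {a e : K}, a * a * e₀ = a₀ * a₀ * e ∧ a * e₀ = a₀ * e → a₀ ≠ 0 → e₀ ≠ 0 → (a = 0 ∧ e = 0) ∨ (a = a₀ ∧ e = e₀) :=
    fun {a e} h x y => by
      have : a * (a + a₀) * e₀ = 0 := by grind
      by_cases z : a = 0
      · exact .inl ⟨z, by grind⟩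
      · have : a = a₀ := by grind
        exact .inr ⟨this, by grind⟩
  by_cases x : a₀ = 0
  · have : a₁ = 0 := by grind
    have : a₂ = 0 := by grind
    grind
  by_cases y : e₀ = 0
  · have : e₁ = 0 := by grind
    have : e₂ = 0 := by grind
    grind
  rcases k p x y with ⟨rfl, rfl⟩ | ⟨rfl, rfl⟩ <;> rcases k q x y with ⟨rfl, rfl⟩ | ⟨rfl, rfl⟩ <;> simp
theorem cm_ct (a : u ∈ A1 K) (b : v ∈ A2 K) : ⁅u, v⁆ = 1 ∨ Ct ⁅u, v⁆ := by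
  obtain ⟨a₀, _, _, rfl⟩ := mem_A1.1 a
  obtain ⟨_, _, e, rfl⟩ := mem_A2.1 b
  rw [a1_nf a₀, a2_nf _ _ e, rt_xr.cm, z_one]
  by_cases z : a₀ = 0 ∨ e = 0
  · exact .inl (by grind)
  · exact .inr ⟨_, _, by grind, by grind, rfl⟩
theorem ct_cm (h : Ct g) : ∃ a e : K, g = ⁅xr 1 a, xr 4 e⁆ := by
  obtain ⟨b, c, b0, c0, rfl⟩ := h
  exact ⟨b / c, c * c / b, by rw [cm14]; congr 2 <;> field_simp⟩

end CF.S4q
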